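import Mathlib.RingTheory.LittleWedderburn
import Mathlib.Algebra.Field.TransferInstance
import Mathlib.Algebra.Ring.Subring.Basic
import Mathlib.Algebra.Module.NatInt
import Mathlib.GroupTheory.Index
import Mathlib.Tactic.NoncommRing

/-!
# A field from a system of transvection maps in dimension at least three
-/

set_option autoImplicit false
set_option linter.unusedSectionVars false

namespace CfsgLib.ItoDesign63

/-- Transvection maps between at least three groups of the same order, closed under composition,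
all come from one finite field. -/
theorem field_of_system {m : ℕ} (hm : 3 ≤ m) {A : Fin m → Type*} [∀ i, AddCommGroup (A i)]
    [∀ i, Finite (A i)] {τ : ℕ} (hτ : 2 ≤ τ) (hA : ∀ i, Nat.card (A i) = τ)
    (S : ∀ i j, AddSubgroup (A j →+ A i))
    (hS : ∀ i j, i ≠ j → Nat.card (S i j) = τ)
    (hbij : ∀ i j, i ≠ j → ∀ φ ∈ S i j, φ ≠ 0 → Function.Bijective φ)
    (hcomp : ∀ i j l, i ≠ j → j ≠ l → i ≠ l → ∀ φ ∈ S i j, ∀ ψ ∈ S j l, φ.comp ψ ∈ S i l) :
    ∃ (F : Type) (_ : Field F) (_ : Fintype F) (θ : ∀ i, F ≃+ A i), Fintype.card F = τ ∧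
      ∀ i j, i ≠ j → ∀ c : F, ∃ φ ∈ S i j, ∀ x, φ (θ j x) = θ i (c * x) := by
  classical
  let o : Fin m := ⟨0, by omega⟩
  have hfin : ∀ i j, Finite (A j →+ A i) := fun i j =>
    Finite.of_injective (fun φ => (φ : A j → A i)) DFunLike.coe_injective
  -- the chosen isomorphisms
  have he : ∀ j, ∃ e : A j ≃+ A o, (j ≠ o → (e : A j →+ A o) ∈ S o j) ∧
      ∀ h : j = o, ∀ y, e y = h ▸ y := by
    intro j
    by_cases hj : j = o
    · subst hj; exact ⟨AddEquiv.refl _, fun h => absurd rfl h, fun _ _ => rfl⟩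
    have hne : S o j ≠ ⊥ := fun h => by
      have := hS o j (Ne.symm hj)
      rw [h, AddSubgroup.card_bot] at this
      omega
    obtain ⟨φ, hφ, hφ0⟩ := (AddSubgroup.bot_or_exists_ne_zero _).resolve_left hne
    exact ⟨AddEquiv.ofBijective φ (hbij o j (Ne.symm hj) φ hφ hφ0), fun _ => hφ, fun h => absurd h hj⟩
  choose e he heo using he
  -- the coordinate of a map
  let R : Fin m → AddSubgroup (A o →+ A o) := fun j =>
    (S o j).map (AddMonoidHom.compHom' ((e j).symm : A o →+ A j))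
  have memR : ∀ j φ, φ ∈ R j ↔ ∃ ψ ∈ S o j, ψ.comp ((e j).symm : A o →+ A j) = φ :=
    fun j φ => AddSubgroup.mem_map
  have hcardR : ∀ j, j ≠ o → Nat.card (R j) = τ := fun j hj => by
    have hinj : Function.Injective
        (AddMonoidHom.compHom' ((e j).symm : A o →+ A j) : (A j →+ A o) →+ (A o →+ A o)) := by
      intro a b h
      refine AddMonoidHom.ext fun x => ?_
      simpa using DFunLike.congr_fun h (e j x)
    rw [← hS o j (Ne.symm hj)]
    exact (Nat.card_congr ((S o j).equivMapOfInjective _ hinj).toEquiv).symm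
  have hid : ∀ j, j ≠ o → AddMonoidHom.id (A o) ∈ R j := fun j hj =>
    (memR j _).2 ⟨_, he j hj, AddMonoidHom.ext fun x => by simp⟩
  let Q : ∀ j l, AddSubgroup (A o →+ A o) := fun j l =>
    (S j l).map ((AddMonoidHom.compHom (e j : A j →+ A o)).comp
      (AddMonoidHom.compHom' ((e l).symm : A o →+ A l)))
  have memQ : ∀ j l φ, φ ∈ Q j l ↔ ∃ ψ ∈ S j l,
      (e j : A j →+ A o).comp (ψ.comp ((e l).symm : A o →+ A l)) = φ :=
    fun j l φ => AddSubgroup.mem_map
  have hcardQ : ∀ j l, j ≠ l → Nat.card (Q j l) = τ := fun j l hjl => by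
    have hinj : Function.Injective
        ((AddMonoidHom.compHom (e j : A j →+ A o)).comp
          (AddMonoidHom.compHom' ((e l).symm : A o →+ A l)) :
          (A l →+ A j) →+ (A o →+ A o)) := by
      intro a b h
      refine AddMonoidHom.ext fun x => ?_
      have := DFunLike.congr_fun h (e l x)
      simpa using this
    rw [← hS j l hjl]
    exact (Nat.card_congr ((S j l).equivMapOfInjective _ hinj).toEquiv).symm
  have hRQ : ∀ j l, j ≠ o → l ≠ o → j ≠ l → ∀ a ∈ R j, ∀ b ∈ Q j l, a.comp b ∈ R l := by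
    intro j l hj hl hjl a ha b hb
    obtain ⟨φ, hφ, rfl⟩ := (memR j a).1 ha
    obtain ⟨ψ, hψ, rfl⟩ := (memQ j l b).1 hb
    refine (memR l _).2 ⟨φ.comp ψ, hcomp o j l (Ne.symm hj) hjl (Ne.symm hl) φ hφ ψ hψ, ?_⟩
    exact AddMonoidHom.ext fun x => by simp
  have hQR : ∀ j l, j ≠ o → l ≠ o → j ≠ l → Q j l = R l := by
    intro j l hj hl hjl
    have hsub : (Q j l : Set (A o →+ A o)) ⊆ R l := fun b hb => by
      have := hRQ j l hj hl hjl _ (hid j hj) b hb
      simpa using this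
    exact SetLike.coe_injective (Set.eq_of_subset_of_ncard_le hsub (by
      rw [← Nat.card_coe_set_eq, ← Nat.card_coe_set_eq]
      show Nat.card (R l) ≤ Nat.card (Q j l)
      rw [hcardR l hl, hcardQ j l hjl]) (Set.toFinite _))
  have hRR : ∀ j l, j ≠ o → l ≠ o → j ≠ l → R j = R l := by
    intro j l hj hl hjl
    have hsub : (R j : Set (A o →+ A o)) ⊆ R l := fun a ha => by
      have := hRQ j l hj hl hjl a ha (AddMonoidHom.id (A o)) (by rw [hQR j l hj hl hjl]; exact hid l hl)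
      simpa using this
    exact SetLike.coe_injective (Set.eq_of_subset_of_ncard_le hsub (by
      rw [← Nat.card_coe_set_eq, ← Nat.card_coe_set_eq]
      show Nat.card (R l) ≤ Nat.card (R j)
      rw [hcardR l hl, hcardR j hj]) (Set.toFinite _))
  let j₁ : Fin m := ⟨1, by omega⟩
  let j₂ : Fin m := ⟨2, by omega⟩
  have h1o : j₁ ≠ o := Fin.ne_of_val_ne (show (1 : ℕ) ≠ 0 by omega)
  have h2o : j₂ ≠ o := Fin.ne_of_val_ne (show (2 : ℕ) ≠ 0 by omega)
  have h12 : j₁ ≠ j₂ := Fin.ne_of_val_ne (show (1 : ℕ) ≠ 2 by omega)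
  have hRconst : ∀ j, j ≠ o → R j = R j₁ := fun j hj =>
    (em (j = j₁)).elim (fun h => by rw [h]) (hRR j j₁ hj h1o)
  -- the ring
  let K : Subring (AddMonoid.End (A o)) :=
    { carrier := {x | x ∈ R j₁}
      zero_mem' := (R j₁).zero_mem
      add_mem' := (R j₁).add_mem
      neg_mem' := (R j₁).neg_mem
      one_mem' := hid j₁ h1o
      mul_mem' := fun {a b} ha hb => by
        have := hRQ j₁ j₂ h1o h2o h12 a ha b
          (by rw [hQR j₁ j₂ h1o h2o h12, hRconst j₂ h2o]; exact hb)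
        rwa [hRconst j₂ h2o] at this }
  have memK : ∀ x, x ∈ K ↔ x ∈ R j₁ := fun x => Iff.rfl
  have hKb : ∀ x ∈ K, x ≠ 0 → Function.Bijective x := by
    intro x hx hx0
    obtain ⟨φ, hφ, rfl⟩ := (memR j₁ x).1 hx
    refine (hbij o j₁ (Ne.symm h1o) φ hφ fun h => hx0 ?_).comp (e j₁).symm.bijective
    rw [h]; rfl
  have hKcard : Nat.card K = τ := hcardR j₁ h1o
  have : Finite (AddMonoid.End (A o)) := hfin o o
  have : Finite K := Finite.of_injective Subtype.val Subtype.val_injective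
  have : Nontrivial K := Finite.one_lt_card_iff_nontrivial.1 (by omega)
  have : NoZeroDivisors K := ⟨fun {a b} hab => by
    by_contra hc
    push Not at hc
    have hb0 : (b.1 : AddMonoid.End (A o)) ≠ 0 := fun h => hc.2 (Subtype.ext h)
    refine hc.1 (Subtype.ext ?_)
    refine AddMonoidHom.ext fun y => ?_
    obtain ⟨z, rfl⟩ := (hKb b.1 b.2 hb0).2 y
    have := DFunLike.congr_fun (congrArg Subtype.val hab) z
    exact this⟩
  have : IsDomain K := NoZeroDivisors.to_isDomain K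
  let fK : Field K := (Finite.isDomain_to_isField K).toField
  obtain ⟨F, fF, ftF, ⟨ι⟩⟩ : ∃ (F : Type) (_ : Field F) (_ : Fintype F), Nonempty (F ≃+* K) := by
    have := Fintype.ofFinite K
    let eq := (Fintype.equivFin K).symm
    let f := @Equiv.field _ _ eq fK
    exact ⟨Fin (Fintype.card K), f, inferInstance, ⟨@Equiv.ringEquiv _ _ eq fK.toAdd fK.toMul⟩⟩
  obtain ⟨a₀, ha₀⟩ : ∃ a : A o, a ≠ 0 := by
    have : Nontrivial (A o) := Finite.one_lt_card_iff_nontrivial.1 (by rw [hA]; omega)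
    exact exists_ne 0
  let ev : K →+ A o :=
    { toFun := fun x => x.1 a₀
      map_zero' := rfl
      map_add' := fun _ _ => rfl }
  have hev : Function.Bijective ev := by
    refine Function.Injective.bijective_of_nat_card_le ?_ (by rw [hA, hKcard])
    refine (injective_iff_map_eq_zero ev).2 fun x hx => ?_
    by_contra h0
    exact ha₀ ((hKb x.1 x.2 (fun h => h0 (Subtype.ext h))).1 (hx.trans (map_zero x.1).symm))
  let θ : ∀ i, F ≃+ A i := fun i =>
    (ι.toAddEquiv.trans (AddEquiv.ofBijective ev hev)).trans (e i).symm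
  have hθ : ∀ i x, θ i x = (e i).symm ((ι x).1 a₀) := fun i x => rfl
  refine ⟨F, fF, ftF, θ, ?_, ?_⟩
  · rw [← Nat.card_eq_fintype_card, Nat.card_congr ι.toEquiv, hKcard]
  intro i j hij c
  -- find the map with coordinate `ι c`
  suffices hmem : ∃ φ ∈ S i j, ∀ y, e i (φ y) = (ι c).1 (e j y) by
    obtain ⟨φ, hφ, hy⟩ := hmem
    refine ⟨φ, hφ, fun x => (e i).injective ?_⟩
    rw [hy, hθ, hθ, AddEquiv.apply_symm_apply, AddEquiv.apply_symm_apply, map_mul]
    rfl
  have hc : ∀ jj, jj ≠ o → (ι c).1 ∈ R jj := fun jj hjj => hRconst jj hjj ▸ (ι c).2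
  by_cases hi : i = o
  · subst hi
    -- the base isomorphism need not be the identity
    have hj : j ≠ o := Ne.symm hij
    have hm0 : ∀ jj, jj ≠ o → ∀ a ∈ R jj, ∃ φ ∈ S o jj, ∀ y, φ y = a (e jj y) := by
      intro jj hjj a ha
      obtain ⟨φ, hφ, rfl⟩ := (memR jj a).1 ha
      exact ⟨φ, hφ, fun y => by simp⟩
    obtain ⟨φ, hφ, hφy⟩ := hm0 j hj _ (hc j hj)
    have he0 : e o = AddEquiv.refl (A o) := AddEquiv.ext (heo o rfl)
    exact ⟨φ, hφ, fun y => by rw [hφy, he0]; rfl⟩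
  by_cases hj : j = o
  · subst hj
    obtain ⟨l, hlo, hli⟩ : ∃ l, l ≠ o ∧ l ≠ i :=
      (em (i = j₁)).elim (fun h => ⟨j₂, h2o, h ▸ Ne.symm h12⟩) (fun h => ⟨j₁, h1o, Ne.symm h⟩)
    have hmap : ∀ φ ∈ S i o, ∃ a ∈ R j₁, ∀ y, e i (φ y) = a y := by
      intro φ hφ
      refine ⟨(e i : A i →+ A o).comp φ, ?_, fun y => rfl⟩
      have h1 := hcomp i o l hi (Ne.symm hlo) (Ne.symm hli) φ hφ _ (he l hlo)
      have h2 : (e i : A i →+ A o).comp φ ∈ Q i l :=
        (memQ i l _).2 ⟨_, h1, AddMonoidHom.ext fun x => by simp⟩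
      rwa [hQR i l hi hlo (Ne.symm hli), hRconst l hlo] at h2
    -- counting
    choose a ha hay using hmap
    let g : S i o → R j₁ := fun φ => ⟨a φ.1 φ.2, ha φ.1 φ.2⟩
    have hg : Function.Injective g := fun φ ψ h => Subtype.ext (AddMonoidHom.ext fun y =>
      (e i).injective (by
        rw [hay φ.1 φ.2, hay ψ.1 ψ.2]
        exact DFunLike.congr_fun (congrArg Subtype.val h) y))
    obtain ⟨φ, hφ⟩ :=
      (hg.bijective_of_nat_card_le (by rw [hcardR j₁ h1o, hS i o hi])).2 ⟨(ι c).1, (ι c).2⟩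
    have he0 : e o = AddEquiv.refl (A o) := AddEquiv.ext (heo o rfl)
    refine ⟨φ.1, φ.2, fun y => ?_⟩
    rw [hay φ.1 φ.2, he0]
    exact DFunLike.congr_fun (congrArg Subtype.val hφ) y
  have h2 : (ι c).1 ∈ Q i j := by rw [hQR i j hi hj hij]; exact hc j hj
  obtain ⟨φ, hφ, hφy⟩ := (memQ i j _).1 h2
  exact ⟨φ, hφ, fun y => by rw [← hφy]; show _ = e i (φ ((e j).symm (e j y))); rw [AddEquiv.symm_apply_apply]⟩

end CfsgLib.ItoDesign63
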