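import Mathlib.GroupTheory.GroupAction.Basic
import Mathlib.Algebra.Group.Subgroup.Basic
import Mathlib.GroupTheory.GroupAction.Quotient
import Mathlib.Data.Set.Card
import Mathlib.Combinatorics.Enumerative.DoubleCounting

/-!
# Doubly transitive symmetric designs: central automorphisms

`Design G α β I k l`: points `α`, blocks `β`, incidence `I`, automorphisms `G`.
-/

set_option autoImplicit false
set_option linter.unusedSectionVars false

open MulAction

namespace CfsgLib.ItoDesign63

variable {G α β : Type*} [Group G] [MulAction G α] [MulAction G β]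

/-- A symmetric design with automorphism group `G`, doubly transitive on points and blocks. -/
structure Design (G α β : Type*) [Group G] [MulAction G α] [MulAction G β]
    (I : α → β → Prop) (k l : ℕ) : Prop where
  smul_iff : ∀ (g : G) a E, I (g • a) (g • E) ↔ I a E
  one_le : 1 ≤ l
  two_le : 2 ≤ k
  add_two_le : k + 2 ≤ Nat.card α
  card_eq : Nat.card β = Nat.card α
  card_pts : ∀ E, {a | I a E}.ncard = k
  card_blk : ∀ a, {E | I a E}.ncard = k
  pair_pts : ∀ a b, a ≠ b → {E | I a E ∧ I b E}.ncard = l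
  pair_blk : ∀ E F, E ≠ F → {a | I a E ∧ I a F}.ncard = l
  faithful : ∀ g : G, (∀ a : α, g • a = a) → g = 1
  fix_eq : ∀ g : G, {a : α | g • a = a}.ncard = {E : β | g • E = E}.ncard
  trans_pts : ∀ a b c d : α, a ≠ b → c ≠ d → ∃ g : G, g • a = c ∧ g • b = d
  trans_blk : ∀ A B C D : β, A ≠ B → C ≠ D → ∃ g : G, g • A = C ∧ g • B = D
  trans_flag : ∀ a E b F, I a E → I b F → ∃ g : G, g • a = b ∧ g • E = F
  trans_anti : ∀ a E b F, ¬ I a E → ¬ I b F → ∃ g : G, g • a = b ∧ g • E = F

/-- The line through two points: the intersection of the blocks containing both. -/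
def ln (I : α → β → Prop) (a b : α) : Set α := {c | ∀ E, I a E → I b E → I c E}

/-- Automorphisms fixing every block through `a`. -/
def Cen (G : Type*) {α β : Type*} [Group G] [MulAction G α] [MulAction G β]
    (I : α → β → Prop) (a : α) : Subgroup G :=
  ⨅ E : {E : β // I a E}, stabilizer G E.1

theorem mem_Cen {I : α → β → Prop} {a : α} {g : G} :
    g ∈ Cen G I a ↔ ∀ E, I a E → g • E = E := by
  simp [Cen, Subgroup.mem_iInf]

namespace Design

variable {I : α → β → Prop} {k l : ℕ} [Finite α] [Finite β] (D : Design G α β I k l)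
include D

theorem finite_group : Finite G := by
  refine Finite.of_injective (fun g : G => MulAction.toPerm (β := α) g) fun g h e => ?_
  refine inv_mul_eq_one.1 (D.faithful (g⁻¹ * h) fun a => ?_)
  rw [mul_smul, inv_smul_eq_iff]
  exact (congrArg (fun p : Equiv.Perm α => p a) e).symm

theorem dual : Design G β α (fun E a => I a E) k l where
  smul_iff g E a := D.smul_iff g a E
  one_le := D.one_le
  two_le := D.two_le
  add_two_le := D.card_eq ▸ D.add_two_le
  card_eq := D.card_eq.symm
  card_pts := D.card_blk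
  card_blk := D.card_pts
  pair_pts := D.pair_blk
  pair_blk := D.pair_pts
  faithful g hg := by
    apply D.faithful g
    intro a
    have h := D.fix_eq g
    rw [Set.eq_univ_of_forall (s := {E : β | g • E = E}) hg, Set.ncard_univ, D.card_eq,
      ← Set.ncard_univ] at h
    have e := Set.eq_of_subset_of_ncard_le (Set.subset_univ {a : α | g • a = a}) h.ge
    exact (Set.ext_iff.1 e a).2 trivial
  fix_eq g := (D.fix_eq g).symm
  trans_pts := D.trans_blk
  trans_blk := D.trans_pts
  trans_flag a E b F h h' := by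
    obtain ⟨g, h1, h2⟩ := D.trans_flag E a F b h h'
    exact ⟨g, h2, h1⟩
  trans_anti a E b F h h' := by
    obtain ⟨g, h1, h2⟩ := D.trans_anti E a F b h h'
    exact ⟨g, h2, h1⟩

theorem l_lt : l < k := by
  by_contra hc
  push Not at hc
  -- two distinct blocks would coincide
  have h1 : ∀ E F : β, E ≠ F → {a | I a E} = {a | I a F} := fun E F h => by
    have hs : {a | I a E ∧ I a F} = {a | I a E} :=
      Set.eq_of_subset_of_ncard_le (fun a ha => ha.1) (by rw [D.card_pts, D.pair_blk E F h]; exact hc)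
    have ht : {a | I a E ∧ I a F} = {a | I a F} :=
      Set.eq_of_subset_of_ncard_le (fun a ha => ha.2) (by rw [D.card_pts, D.pair_blk E F h]; exact hc)
    rw [← hs, ht]
  obtain ⟨E⟩ : Nonempty β := (Nat.card_pos_iff.1 (by have := D.card_eq; have := D.add_two_le; omega)).1
  have hall : ∀ a, I a E := fun a => by
    have hne : {F | I a F}.Nonempty :=
      Set.nonempty_of_ncard_ne_zero (by rw [D.card_blk]; have := D.two_le; omega)
    obtain ⟨F, hF⟩ := hne
    by_cases h : F = E
    · exact h ▸ hF
    · exact (Set.ext_iff.1 (h1 F E h) a).1 hF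
  have := D.card_pts E
  rw [Set.eq_univ_of_forall (s := {a | I a E}) hall, Set.ncard_univ] at this
  have := D.add_two_le
  omega

theorem l_add_two_le : l + 2 ≤ k + 1 := by have := D.l_lt; omega

theorem exists_blk (a b : α) : ∃ E, I a E ∧ I b E := by
  by_cases h : a = b
  · subst h
    obtain ⟨E, hE⟩ : {E | I a E}.Nonempty :=
      Set.nonempty_of_ncard_ne_zero (by rw [D.card_blk]; have := D.two_le; omega)
    exact ⟨E, hE, hE⟩
  · exact Set.nonempty_of_ncard_ne_zero (s := {E | I a E ∧ I b E})
      (by rw [D.pair_pts a b h]; have := D.one_le; omega)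

theorem exists_not_pt (E : β) : ∃ a, ¬ I a E := by
  by_contra hc
  push Not at hc
  have := D.card_pts E
  rw [Set.eq_univ_of_forall (s := {a | I a E}) hc, Set.ncard_univ] at this
  have := D.add_two_le
  omega

theorem exists_sep {a b : α} (h : a ≠ b) : ∃ E, I a E ∧ ¬ I b E := by
  by_contra hc
  push Not at hc
  have hs : {E | I a E ∧ I b E} = {E | I a E} := Set.ext fun E => ⟨fun h => h.1, fun h => ⟨h, hc E h⟩⟩
  have := D.pair_pts a b h
  rw [hs, D.card_blk] at this
  have := D.l_lt
  omega

theorem exists_off_two (a : α) (b : α) : ∃ E, I a E ∧ (a = b ∨ ¬ I b E) := by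
  by_cases h : a = b
  · obtain ⟨E, hE, -⟩ := D.exists_blk a a
    exact ⟨E, hE, .inl h⟩
  · obtain ⟨E, hE, hE'⟩ := D.exists_sep h
    exact ⟨E, hE, .inr hE'⟩

theorem eq_of_blk_subset {E F : β} (h : ∀ a, I a E → I a F) : E = F := by
  by_contra hne
  have hs : {a | I a E ∧ I a F} = {a | I a E} := Set.ext fun a => ⟨fun h => h.1, fun ha => ⟨ha, h a ha⟩⟩
  have := D.pair_blk E F hne
  rw [hs, D.card_pts] at this
  have := D.l_lt
  omega

/-- Double counting at a point. -/
theorem count_flags : k * (k - 1) = (Nat.card α - 1) * l := by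
  classical
  have := Fintype.ofFinite α
  have := Fintype.ofFinite β
  obtain ⟨a⟩ : Nonempty α :=
    (Nat.card_pos_iff.1 (by have := D.add_two_le; omega)).1
  have h := Finset.sum_card_bipartiteAbove_eq_sum_card_bipartiteBelow
    (s := Finset.univ.filter fun E : β => I a E) (t := Finset.univ.erase a)
    (fun E b => I b E)
  have h1 : ∀ E ∈ Finset.univ.filter (fun E : β => I a E),
      ((Finset.univ.erase a).bipartiteAbove (fun E b => I b E) E).card = k - 1 := by
    intro E hE
    have hE' : I a E := (Finset.mem_filter.1 hE).2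
    have e : (Finset.univ.erase a).bipartiteAbove (fun E b => I b E) E
        = {b | I b E}.toFinset.erase a := by
      ext b; simp [Finset.bipartiteAbove, and_comm]
    rw [e, Finset.card_erase_of_mem (by simp [hE']), ← Set.ncard_eq_toFinset_card', D.card_pts]
  have h2 : ∀ b ∈ Finset.univ.erase a,
      ((Finset.univ.filter fun E : β => I a E).bipartiteBelow (fun E b => I b E) b).card = l := by
    intro b hb
    have e : (Finset.univ.filter fun E : β => I a E).bipartiteBelow (fun E b => I b E) b
        = {E | I a E ∧ I b E}.toFinset := by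
      ext E; simp [Finset.bipartiteBelow]
    rw [e, ← Set.ncard_eq_toFinset_card', D.pair_pts a b (Finset.ne_of_mem_erase hb).symm]
  rw [Finset.sum_congr rfl h1, Finset.sum_congr rfl h2, Finset.sum_const, Finset.sum_const,
    Finset.card_erase_of_mem (Finset.mem_univ a), Finset.card_univ, smul_eq_mul, smul_eq_mul,
    Nat.card_eq_fintype_card.symm] at h
  have e : (Finset.univ.filter fun E : β => I a E).card = k := by
    rw [← D.card_blk a, Set.ncard_eq_toFinset_card', Set.toFinset_setOf]
  rwa [e] at h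

/-! ### Lines -/

omit [Finite α] [Finite β] D in
theorem left_mem_ln (a b : α) : a ∈ ln I a b := fun _ h _ => h

omit [Finite α] [Finite β] D in
theorem right_mem_ln (a b : α) : b ∈ ln I a b := fun _ _ h => h

omit [Finite α] [Finite β] D in
theorem ln_comm (a b : α) : ln I a b = ln I b a :=
  Set.ext fun _ => ⟨fun h E h1 h2 => h E h2 h1, fun h E h1 h2 => h E h2 h1⟩

theorem mem_iff_of_mem_ln {a b c d : α} (hab : a ≠ b) (hcd : c ≠ d) (hc : c ∈ ln I a b)
    (hd : d ∈ ln I a b) (E : β) : (I c E ∧ I d E) ↔ (I a E ∧ I b E) := by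
  have hsub : {E | I a E ∧ I b E} ⊆ {E | I c E ∧ I d E} := fun E hE =>
    ⟨hc E hE.1 hE.2, hd E hE.1 hE.2⟩
  have := Set.eq_of_subset_of_ncard_le hsub (by rw [D.pair_pts _ _ hab, D.pair_pts _ _ hcd])
  exact (Set.ext_iff.1 this E).symm

theorem ln_eq {a b c d : α} (hab : a ≠ b) (hcd : c ≠ d) (hc : c ∈ ln I a b)
    (hd : d ∈ ln I a b) : ln I c d = ln I a b :=
  Set.ext fun x =>
    ⟨fun h E h1 h2 => by
      have := (D.mem_iff_of_mem_ln hab hcd hc hd E).2 ⟨h1, h2⟩
      exact h E this.1 this.2,
    fun h E h1 h2 => by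
      have := (D.mem_iff_of_mem_ln hab hcd hc hd E).1 ⟨h1, h2⟩
      exact h E this.1 this.2⟩

/-- Two lines with two common points are equal. -/
theorem ln_eq_ln {a b c d x y : α} (hab : a ≠ b) (hcd : c ≠ d) (hxy : x ≠ y)
    (h1 : x ∈ ln I a b) (h2 : y ∈ ln I a b) (h3 : x ∈ ln I c d) (h4 : y ∈ ln I c d) :
    ln I a b = ln I c d := by
  rw [← D.ln_eq hab hxy h1 h2, ← D.ln_eq hcd hxy h3 h4]

theorem smul_mem_ln (g : G) {a b c : α} : g • c ∈ ln I (g • a) (g • b) ↔ c ∈ ln I a b := by
  constructor
  · intro h E h1 h2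
    exact (D.smul_iff g c E).1 (h _ ((D.smul_iff g a E).2 h1) ((D.smul_iff g b E).2 h2))
  · intro h E h1 h2
    have e : g • g⁻¹ • E = E := smul_inv_smul g E
    rw [← e, D.smul_iff] at h1 h2 ⊢
    exact h _ h1 h2

/-! ### Central automorphisms -/

theorem smul_of_mem_Cen {g : G} {a : α} (hg : g ∈ Cen G I a) : g • a = a := by
  by_contra hne
  obtain ⟨E, hE, hE'⟩ := D.exists_sep (a := a) (b := g • a) (Ne.symm hne)
  apply hE'
  have := (D.smul_iff g a E).2 hE
  rwa [mem_Cen.1 hg E hE] at this

theorem smul_mem_Cen (h : G) {g : G} {a : α} (hg : g ∈ Cen G I a) :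
    h * g * h⁻¹ ∈ Cen G I (h • a) := by
  rw [mem_Cen] at hg ⊢
  intro E hE
  have e : h • h⁻¹ • E = E := smul_inv_smul h E
  rw [← e, D.smul_iff] at hE
  conv_lhs => rw [mul_smul, mul_smul, hg _ hE, smul_inv_smul]

/-- A central automorphism moves a point along its line through the centre. -/
theorem smul_mem_ln_cen {g : G} {a y : α} (hg : g ∈ Cen G I a) : g • y ∈ ln I a y :=
  fun E ha hy => by
    have := (D.smul_iff g y E).2 hy
    rwa [mem_Cen.1 hg E ha] at this

theorem cen_mem_ln {g : G} {a y : α} (hg : g ∈ Cen G I a) (hy : g • y ≠ y) :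
    a ∈ ln I y (g • y) := by
  have hay : a ≠ y := fun e => hy (e ▸ D.smul_of_mem_Cen hg)
  rw [D.ln_eq hay (Ne.symm hy) (right_mem_ln a y) (D.smul_mem_ln_cen hg)]
  exact left_mem_ln a y

/-- A fixed block off the centre is fixed pointwise. -/
theorem fix_of_blk {g : G} {a : α} {E : β} (hg : g ∈ Cen G I a) (hE : g • E = E) (ha : ¬ I a E)
    {y : α} (hy : I y E) : g • y = y := by
  by_contra hne
  apply ha
  refine D.cen_mem_ln hg hne E hy ?_
  have := (D.smul_iff g y E).2 hy
  rwa [hE] at this

/-- The fixed points of a central automorphism are closed under lines off the centre. -/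
theorem fix_of_ln {g : G} {a x y z : α} (hg : g ∈ Cen G I a) (hx : g • x = x) (hy : g • y = y)
    (hxy : x ≠ y) (ha : a ∉ ln I x y) (hz : z ∈ ln I x y) : g • z = z := by
  by_contra hne
  apply ha
  have h1 : g • z ∈ ln I x y := by
    have := (D.smul_mem_ln g).2 hz
    rwa [hx, hy] at this
  rw [← D.ln_eq hxy (Ne.symm hne) hz h1]
  exact D.cen_mem_ln hg hne

/-- The points of a moved block that stay in its image are exactly the fixed ones. -/
theorem inter_smul_blk {g : G} {a : α} {E : β} (hg : g ∈ Cen G I a) (hE : g • E ≠ E) :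
    {x | I x E ∧ g • x = x} = {x | I x E ∧ I x (g • E)} := by
  ext x
  refine ⟨fun h => ⟨h.1, ?_⟩, fun h => ⟨h.1, ?_⟩⟩
  · have := (D.smul_iff g x E).2 h.1
    rwa [h.2] at this
  · by_contra hne
    have h2 : I (g⁻¹ • x) E := by
      rw [← D.smul_iff g, smul_inv_smul]; exact h.2
    have h3 : g • g⁻¹ • x ≠ g⁻¹ • x := by
      rw [smul_inv_smul]
      intro e
      exact hne (eq_inv_smul_iff.1 e)
    have h4 := D.cen_mem_ln hg h3 E h2 (by rw [smul_inv_smul]; exact h.1)
    exact hE (mem_Cen.1 hg E h4)

theorem card_fix_inter {g : G} {a : α} {E : β} (hg : g ∈ Cen G I a) (hE : g • E ≠ E) :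
    {x | I x E ∧ g • x = x}.ncard = l := by
  rw [D.inter_smul_blk hg hE, D.pair_blk E (g • E) (Ne.symm hE)]

/-- An automorphism has at most one centre. -/
theorem eq_one_of_two_cen {g : G} {a b : α} (hab : a ≠ b) (ha : g ∈ Cen G I a)
    (hb : g ∈ Cen G I b) : g = 1 := by
  have hline : ∀ y, y ∉ ln I a b → g • y = y := fun y hy => by
    by_contra hne
    apply hy
    have h1 := D.cen_mem_ln ha hne
    have h2 := D.cen_mem_ln hb hne
    rw [D.ln_eq (Ne.symm hne) hab h1 h2]
    exact left_mem_ln y (g • y)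
  have hblk : ∀ E : β, g • E = E := fun E => by
    by_contra hne
    have hcard := D.card_fix_inter ha hne
    -- the block meets the line at most once
    have h1 : {x | I x E ∧ x ∈ ln I a b}.ncard ≤ 1 := by
      rw [Set.ncard_le_one_iff]
      intro x y hx hy
      by_contra hxy
      have h := D.ln_eq hab hxy hx.2 hy.2
      have hEa : I a E := by
        have : a ∈ ln I x y := h ▸ left_mem_ln a b
        exact this E hx.1 hy.1
      exact hne (mem_Cen.1 ha E hEa)
    have h2 : {x | I x E} ⊆ {x | I x E ∧ g • x = x} ∪ {x | I x E ∧ x ∈ ln I a b} := fun x hx =>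
      (em (x ∈ ln I a b)).elim (fun h => .inr ⟨hx, h⟩) (fun h => .inl ⟨hx, hline x h⟩)
    have h3 := (Set.ncard_le_ncard h2).trans (Set.ncard_union_le _ _)
    rw [D.card_pts, hcard] at h3
    -- so k = l + 1
    have hk : k = l + 1 := by have := D.l_lt; omega
    obtain ⟨F, hF, -⟩ := D.exists_blk a a
    have hcount := D.count_flags
    rw [hk, Nat.add_sub_cancel] at hcount
    have hl := D.one_le
    have hv := D.add_two_le
    have : Nat.card α - 1 = l + 1 := (Nat.eq_of_mul_eq_mul_right hl hcount).symm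
    omega
  exact D.dual.faithful g hblk

end Design

end CfsgLib.ItoDesign63
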