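import Cfsg.Agent.Lib.ItoDesign63.Frame
import Cfsg.Agent.Lib.ItoDesign63.Algebra
import Mathlib.Algebra.Module.Pi

/-!
# Linear coordinates on the translation group in dimension at least three
-/

set_option autoImplicit false
set_option linter.unusedSectionVars false

open MulAction

namespace CfsgLib.ItoDesign63

namespace Full

variable {G α β : Type*} [Group G] [MulAction G α] [MulAction G β]
variable {I : α → β → Prop} {k l : ℕ} [Finite α] [Finite β] (D : Full G I k l)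
include D

/-- Linear coordinates: the centres correspond to the lines of `F^m`. -/
structure LinCoord (B : β) (m : ℕ) (F : Type) [Field F] where
  ψ : (Fin m → F) ≃+ D.Tr B
  centre : ∀ b, I b B → ∀ (z : Fin m → F) (c : F),
    (ψ z).toMul.1 ∈ Cen G I b → (ψ (c • z)).toMul.1 ∈ Cen G I b

namespace Frame

variable {D} {B : β} {m : ℕ} (Fr : D.Frame B m)
include Fr

/-- A coordinate subgroup. -/
abbrev A (i : Fin m) : AddSubgroup (D.Tr B) := D.inT B (D.Tc (Fr.b i) B)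

theorem h_fix {i j : Fin m} {h : G} (hh : h ∈ D.Tc (Fr.b i) (Fr.C j)) :
    h ∈ D.TC (Fr.C j) B :=
  ⟨hh.1, mem_Cen.1 (Subgroup.mem_inf.1 hh).2 B (Fr.on i)⟩

/-- The transvection map of an elation. -/
def dmap {i j : Fin m} {h : G} (hh : h ∈ D.Tc (Fr.b i) (Fr.C j)) : Fr.A j →+ Fr.A i where
  toFun x := ⟨Additive.ofMul ⟨D.br h x.1.toMul.1, (D.br_mem (Fr.on i) hh x.1.toMul.2).1⟩,
    D.br_mem (Fr.on i) hh x.1.toMul.2⟩
  map_zero' := Subtype.ext (Additive.toMul.injective (Subtype.ext (by simp [br])))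
  map_add' x y := Subtype.ext (Additive.toMul.injective (Subtype.ext
    (D.br_mul_right (Fr.on i) hh x.1.toMul.2 y.1.toMul.2)))

theorem dmap_val {i j : Fin m} {h : G} (hh : h ∈ D.Tc (Fr.b i) (Fr.C j)) (x : Fr.A j) :
    ((Fr.dmap hh x).1.toMul).1 = D.br h x.1.toMul.1 := rfl

/-- The transvection maps of one centre and axis. -/
def dHom (i j : Fin m) (hij : i ≠ j) :
    Additive (D.Tc (Fr.b i) (Fr.C j)) →+ (Fr.A j →+ Fr.A i) :=
  AddMonoidHom.mk' (fun h => Fr.dmap h.toMul.2) fun h h' => AddMonoidHom.ext fun x =>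
    Subtype.ext (Additive.toMul.injective (Subtype.ext
      (D.br_mul_left (Ne.symm (Fr.ne j)) (Fr.on i) ((Fr.inc i j).2 hij) (Fr.h_fix h.toMul.2)
        h'.toMul.2 x.1.toMul.2)))

theorem dHom_eq_zero {i j : Fin m} {h : G} (hh : h ∈ D.Tc (Fr.b i) (Fr.C j)) {x : Fr.A j}
    (hx : x ≠ 0) (h0 : Fr.dmap hh x = 0) : h = 1 := by
  have h1 : D.br h x.1.toMul.1 = 1 := by rw [← Fr.dmap_val hh, h0]; rfl
  refine D.eq_one_of_br hh.1 x.1.toMul.2 (fun hc => hx ?_) h1
  have hj : ¬ I (Fr.b j) (Fr.C j) := fun h => (Fr.inc j j).1 h rfl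
  exact Subtype.ext (Additive.toMul.injective (Subtype.ext
    (D.Tc_inf_TC (Fr.on j) hj x.2 hc)))

theorem dHom_injective (i j : Fin m) (hij : i ≠ j) : Function.Injective (Fr.dHom i j hij) := by
  refine (injective_iff_map_eq_zero _).2 fun h h0 => ?_
  obtain ⟨g, hg, hg1⟩ := D.exists_Tc (Fr.on j)
  let x : Fr.A j := ⟨Additive.ofMul ⟨g, hg.1⟩, hg⟩
  have hx : x ≠ 0 := fun e => hg1 (congrArg (fun y : Fr.A j => y.1.toMul.1) e)
  have : h.toMul.1 = 1 := Fr.dHom_eq_zero h.toMul.2 hx (DFunLike.congr_fun h0 x)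
  exact Additive.toMul.injective (Subtype.ext this)

/-- The set of transvection maps between two coordinates. -/
noncomputable def S (i j : Fin m) : AddSubgroup (Fr.A j →+ Fr.A i) :=
  open scoped Classical in if h : i ≠ j then (Fr.dHom i j h).range else ⊥

theorem mem_S {i j : Fin m} (hij : i ≠ j) {φ : Fr.A j →+ Fr.A i} :
    φ ∈ Fr.S i j ↔ ∃ (h : G) (hh : h ∈ D.Tc (Fr.b i) (Fr.C j)), Fr.dmap hh = φ := by
  rw [S, dif_pos hij]
  constructor
  · rintro ⟨h, rfl⟩; exact ⟨_, h.toMul.2, rfl⟩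
  · rintro ⟨h, hh, rfl⟩; exact ⟨Additive.ofMul ⟨h, hh⟩, rfl⟩

theorem card_A (i : Fin m) (i₀ : Fin m) : Nat.card (Fr.A i) = Nat.card (D.Tc (Fr.b i₀) B) := by
  rw [A, D.card_inT (show D.Tc (Fr.b i) B ≤ D.T B from inf_le_left),
    D.card_Tc_eq (Fr.on i) (Fr.on i₀)]

theorem card_S {i j : Fin m} (hij : i ≠ j) (i₀ : Fin m) :
    Nat.card (Fr.S i j) = Nat.card (D.Tc (Fr.b i₀) B) := by
  rw [S, dif_pos hij]
  refine (Nat.card_congr (Equiv.ofInjective _ (Fr.dHom_injective i j hij))).symm.trans ?_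
  exact D.card_Tc_eq ((Fr.inc i j).2 hij) (Fr.on i₀)

theorem bij_S {i j : Fin m} (hij : i ≠ j) {φ : Fr.A j →+ Fr.A i} (hφ : φ ∈ Fr.S i j)
    (h0 : φ ≠ 0) : Function.Bijective φ := by
  have := D.toDesign.finite_group
  obtain ⟨h, hh, rfl⟩ := (Fr.mem_S hij).1 hφ
  refine Function.Injective.bijective_of_nat_card_le ?_ (by rw [Fr.card_A i i, Fr.card_A j i])
  refine (injective_iff_map_eq_zero _).2 fun x hx => ?_
  by_contra hx0
  obtain rfl := Fr.dHom_eq_zero hh hx0 hx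
  exact h0 (AddMonoidHom.ext fun y => Subtype.ext (Additive.toMul.injective (Subtype.ext
    (by simp [dmap_val, br]))))

theorem comp_S {i j r : Fin m} (hij : i ≠ j) (hjr : j ≠ r) (hir : i ≠ r)
    {φ : Fr.A j →+ Fr.A i} (hφ : φ ∈ Fr.S i j) {χ : Fr.A r →+ Fr.A j} (hχ : χ ∈ Fr.S j r) :
    φ.comp χ ∈ Fr.S i r := by
  obtain ⟨h, hh, rfl⟩ := (Fr.mem_S hij).1 hφ
  obtain ⟨h', hh', rfl⟩ := (Fr.mem_S hjr).1 hχ
  have hcC : I (Fr.b i) (Fr.C r) := (Fr.inc i r).2 hir
  -- the commutator of the two elations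
  let g := h * h' * h⁻¹ * h'⁻¹
  have hgT : g ∈ D.T (Fr.C r) := by
    have h1 := D.T_conj h hh'.1
    rw [mem_Cen.1 (Subgroup.mem_inf.1 hh).2 _ hcC] at h1
    exact mul_mem h1 (inv_mem hh'.1)
  have hgc : g ∈ Cen G I (Fr.b i) := by
    have h1 := D.toDesign.smul_mem_Cen h' (inv_mem (Subgroup.mem_inf.1 hh).2)
    rw [D.smul_of_mem_T hh'.1 hcC] at h1
    have := mul_mem (Subgroup.mem_inf.1 hh).2 h1
    simpa [g, mul_assoc] using this
  have hg : g ∈ D.Tc (Fr.b i) (Fr.C r) := Subgroup.mem_inf.2 ⟨hgT, hgc⟩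
  refine (Fr.mem_S hir).2 ⟨g⁻¹, inv_mem hg, ?_⟩
  refine AddMonoidHom.ext fun x => Subtype.ext (Additive.toMul.injective (Subtype.ext ?_))
  show D.br g⁻¹ x.1.toMul.1 = D.br h (D.br h' x.1.toMul.1)
  let n := x.1.toMul.1
  let u := D.br h' n
  have hn : n ∈ D.TC B (Fr.C j) := D.Tc_le_TC ((Fr.inc r j).2 (Ne.symm hjr)) x.2
  have hc : n * h = h * n := D.commute_of_TC (Ne.symm (Fr.ne j)) (Fr.h_fix hh) hn
  have hu : u ∈ D.Tc (Fr.b j) B := D.br_mem (Fr.on j) hh' x.1.toMul.2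
  have hw : D.br g n ∈ D.Tc (Fr.b i) B := D.br_mem (Fr.on i) hg x.1.toMul.2
  have hv : D.br h u ∈ D.Tc (Fr.b i) B := D.br_mem (Fr.on i) hh hu.1
  -- evaluate `br (h h' h⁻¹)` in two ways
  have e1 : D.br g n * D.br h' n = D.br (g * h') n :=
    (D.br_mul_left (Ne.symm (Fr.ne r)) (Fr.on j) ((Fr.inc j r).2 hjr) (Fr.h_fix hg) hh'
      x.1.toMul.2).symm
  have e2 : D.br (g * h') n = h * D.br h' n * h⁻¹ := by
    have hc1 : h⁻¹ * n = n * h⁻¹ :=
      (show Commute h⁻¹ n from ((show Commute n h from hc).symm).inv_left).eq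
    have hc2 : h⁻¹ * n⁻¹ = n⁻¹ * h⁻¹ :=
      (show Commute h⁻¹ n⁻¹ from ((show Commute n h from hc).symm).inv_left.inv_right).eq
    calc D.br (g * h') n = n * (h * h' * h⁻¹) * n⁻¹ * (h * h' * h⁻¹)⁻¹ := by simp [br, g, mul_assoc]
      _ = (n * h) * h' * (h⁻¹ * n⁻¹) * (h * h'⁻¹ * h⁻¹) := by simp [mul_assoc]
      _ = (h * n) * h' * (n⁻¹ * h⁻¹) * (h * h'⁻¹ * h⁻¹) := by rw [hc, hc2]
      _ = h * D.br h' n * h⁻¹ := by simp [br, mul_assoc]
  have e3 : h * u * h⁻¹ = (D.br h u)⁻¹ * u := by simp [br, mul_assoc]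
  have e4 : D.br g n = (D.br h u)⁻¹ := mul_right_cancel (b := u) (e1.trans (e2.trans e3))
  -- invert
  have e5 := D.br_mul_left (Ne.symm (Fr.ne r)) (Fr.on i) hcC (Fr.h_fix hg) (inv_mem hg)
    x.1.toMul.2
  rw [mul_inv_cancel, show D.br 1 n = 1 by simp [br], e4] at e5
  exact (inv_mul_eq_one.1 e5.symm).symm

theorem exists_linCoord (hm : 3 ≤ m) :
    ∃ (F : Type) (_ : Field F) (_ : Fintype F), Nonempty (D.LinCoord B m F) := by
  classical
  have := D.toDesign.finite_group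
  obtain ⟨τ, hτ⟩ : ∃ τ, τ = Nat.card (D.Tc (Fr.b ⟨0, by omega⟩) B) := ⟨_, rfl⟩
  obtain ⟨F, iF, iFt, θ, -, hθ⟩ := field_of_system hm (A := fun i => Fr.A i) (τ := τ)
    (hτ ▸ (D.params (Fr.on _)).2.1) (fun i => hτ ▸ Fr.card_A i _) Fr.S
    (fun i j hij => hτ ▸ Fr.card_S hij _) (fun i j hij φ hφ => Fr.bij_S hij hφ)
    (fun i j r hij hjr hir φ hφ χ hχ => Fr.comp_S hij hjr hir hφ hχ)
  let f : (Fin m → F) →+ D.Tr B :=
    { toFun := fun z => ∑ i, ((θ i (z i) : Fr.A i) : D.Tr B)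
      map_zero' := by simp
      map_add' := fun z w => by simp [Finset.sum_add_distrib] }
  have hf : Function.Bijective f := by
    have : (f : (Fin m → F) → D.Tr B) = (fun x : ∀ i, Fr.A i => ∑ i, (x i : D.Tr B)) ∘
        (Equiv.piCongrRight fun i => (θ i).toEquiv) := rfl
    rw [this]
    exact Fr.bij.comp (Equiv.bijective _)
  let ψ := AddEquiv.ofBijective f hf
  refine ⟨F, iF, iFt, ⟨⟨ψ, ?_⟩⟩⟩
  have single : ∀ i x, (ψ (Pi.single i x) : D.Tr B) = ((θ i x : Fr.A i) : D.Tr B) := by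
    intro i x
    show ∑ r, ((θ r ((Pi.single i x : Fin m → F) r) : Fr.A r) : D.Tr B) = _
    rw [Finset.sum_eq_single i (fun r _ hr => by rw [Pi.single_eq_of_ne hr, map_zero]; rfl)
      (by simp), Pi.single_eq_same]
  suffices hgood : ∀ n, ∀ z : Fin m → F, (Finset.univ.filter fun i => z i ≠ 0).card = n →
      ∀ b, I b B → (ψ z).toMul.1 ∈ Cen G I b → ∀ c : F, (ψ (c • z)).toMul.1 ∈ Cen G I b from
    fun b hb z c hz => hgood _ z rfl b hb hz c
  intro n
  induction n using Nat.strong_induction_on with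
  | _ n ih =>
  intro z hn b hb hz c
  by_cases hz0 : z = 0
  · subst hz0; rw [smul_zero, map_zero]; exact one_mem _
  obtain ⟨i, hi⟩ : ∃ i, z i ≠ 0 := Function.ne_iff.1 hz0
  by_cases hone : ∀ j, j ≠ i → z j = 0
  · have hzi : z = Pi.single i (z i) := funext fun j => (em (j = i)).elim
      (fun h => by rw [h, Pi.single_eq_same]) (fun h => by rw [Pi.single_eq_of_ne h, hone j h])
    rw [hzi, single] at hz
    have hne : ((θ i (z i) : Fr.A i) : D.Tr B).toMul.1 ≠ 1 := fun e => hi ((θ i).injective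
      ((Subtype.ext (Additive.toMul.injective (Subtype.ext e))).trans (map_zero (θ i)).symm))
    have hbi : b = Fr.b i := by
      by_contra hne'
      exact hne (D.toDesign.eq_one_of_two_cen hne' hz (Subgroup.mem_inf.1 (θ i (z i)).2).2)
    rw [hzi, ← Pi.single_smul, single, hbi]
    exact (Subgroup.mem_inf.1 (θ i (c • z i)).2).2
  push Not at hone
  obtain ⟨j, hji, hj⟩ := hone
  -- an elation clearing coordinate `i`
  obtain ⟨φ, hφ, hφy⟩ := hθ i j (Ne.symm hji) (z i / z j)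
  obtain ⟨h, hh, rfl⟩ := (Fr.mem_S (Ne.symm hji)).1 hφ
  let op : (Fin m → F) → (Fin m → F) := fun w => w - Pi.single i (z i / z j * w j)
  have hconj : ∀ w, (ψ (op w)).toMul.1 = h * (ψ w).toMul.1 * h⁻¹ := by
    intro w
    -- split off coordinate `j`
    have hw : w = Pi.single j (w j) + (w - Pi.single j (w j)) := by abel
    have hrest : (ψ (w - Pi.single j (w j))).toMul.1 ∈ D.TC B (Fr.C j) := by
      have : ψ (w - Pi.single j (w j)) ∈ D.inT B (D.TC B (Fr.C j)) := by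
        refine AddSubgroup.sum_mem (D.inT B (D.TC B (Fr.C j))) fun r _ => ?_
        by_cases hr : r = j
        · subst hr
          simp
        · exact D.Tc_le_TC ((Fr.inc r j).2 hr) (θ r _).2
      exact this
    have hmain : D.br h (ψ w).toMul.1 = (((θ i (z i / z j * w j) : Fr.A i) : D.Tr B).toMul).1 := by
      conv_lhs => rw [hw, map_add, single]
      rw [← hφy, Fr.dmap_val]
      refine (D.br_mul_right (Fr.on i) hh (Subtype.prop _) hrest.1).trans ?_
      have hc := D.commute_of_TC (Ne.symm (Fr.ne j)) (Fr.h_fix hh) hrest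
      have : D.br h (ψ (w - Pi.single j (w j))).toMul.1 = 1 := by
        simp only [br]
        rw [hc]; group
      rw [this, mul_one]
    show ((ψ (w - Pi.single i (z i / z j * w j))).toMul).1 = _
    rw [map_sub, single]
    have e3 : h * (ψ w).toMul.1 * h⁻¹ = (D.br h (ψ w).toMul.1)⁻¹ * (ψ w).toMul.1 := by
      simp [br, mul_assoc]
    rw [e3, hmain]
    rw [D.T_comm (inv_mem (Subtype.prop (((θ i (z i / z j * w j) : Fr.A i) : D.Tr B).toMul)))
      (Subtype.prop (ψ w).toMul)]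
    rw [sub_eq_add_neg]
    rfl
  have hhB : h • B = B := mem_Cen.1 (Subgroup.mem_inf.1 hh).2 B (Fr.on i)
  have hb' : I (h • b) B := by rw [← hhB, D.smul_iff]; exact hb
  have hz' : (ψ (op z)).toMul.1 ∈ Cen G I (h • b) := by
    rw [hconj]; exact D.toDesign.smul_mem_Cen h hz
  have hsupp : (Finset.univ.filter fun r => op z r ≠ 0).card < n := by
    rw [← hn]
    refine Finset.card_lt_card ⟨fun r hr => ?_, fun hs => ?_⟩
    · simp only [Finset.mem_filter, Finset.mem_univ, true_and] at hr ⊢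
      intro h0
      apply hr
      have hri : r ≠ i := fun e => hi (e ▸ h0)
      simp [op, Pi.single_eq_of_ne hri, h0]
    · have := hs (show i ∈ Finset.univ.filter fun r => z r ≠ 0 by simp [hi])
      simp only [Finset.mem_filter, Finset.mem_univ, true_and] at this
      apply this
      simp only [op, Pi.sub_apply, Pi.single_eq_same]
      rw [div_mul_cancel₀ _ hj, sub_self]
  have h2 := ih _ hsupp (op z) rfl (h • b) hb' hz' c
  have hlin : c • op z = op (c • z) := by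
    funext r
    by_cases hr : r = i
    · subst hr
      simp only [op, Pi.smul_apply, Pi.sub_apply, Pi.single_eq_same, smul_eq_mul]
      ring
    · simp [op, Pi.single_eq_of_ne hr]
  rw [hlin, hconj] at h2
  have h3 := D.toDesign.smul_mem_Cen h⁻¹ h2
  rwa [inv_smul_smul, inv_inv, show h⁻¹ * (h * (ψ (c • z)).toMul.1 * h⁻¹) * h = (ψ (c • z)).toMul.1
    by simp [mul_assoc]] at h3

end Frame

end Full

end CfsgLib.ItoDesign63
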