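import Cfsg.Agent.Lib.ItoDesign63.Basic
import Mathlib.GroupTheory.Index
import Mathlib.Algebra.Group.Subgroup.Finite
import Mathlib.Tactic.Ring
import Mathlib.Tactic.Linarith

/-!
# Elations and their axes
-/

set_option autoImplicit false
set_option linter.unusedSectionVars false

open MulAction

namespace CfsgLib.ItoDesign63

variable {G α β : Type*} [Group G] [MulAction G α] [MulAction G β]

/-- Fixed points. -/
def fx (α : Type*) {G : Type*} [Group G] [MulAction G α] (g : G) : Set α := {x | g • x = x}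

/-- A nontrivial central automorphism with exactly `k` fixed points. -/
def IsEl (I : α → β → Prop) (k : ℕ) (g : G) (a : α) : Prop :=
  g ∈ Cen G I a ∧ g ≠ 1 ∧ (fx α g).ncard = k

namespace Design

variable {I : α → β → Prop} {k l : ℕ} [Finite α] [Finite β] (D : Design G α β I k l)
include D

/-- A central automorphism with a fixed block off the centre is a homology. -/
theorem fx_homology {g : G} {a : α} {E : β} (hg : g ∈ Cen G I a) (h1 : g ≠ 1) (hE : g • E = E)
    (ha : ¬ I a E) : fx α g = insert a {x | I x E} := by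
  refine Set.Subset.antisymm (fun x hx => ?_) ?_
  · by_contra hne
    rw [Set.mem_insert_iff, not_or] at hne
    apply h1
    refine D.eq_one_of_two_cen (Ne.symm hne.1) hg (mem_Cen.2 fun F hF => ?_)
    by_contra hFne
    have hEF : E ≠ F := fun e => hFne (e ▸ hE)
    have hsub : {y | I y F ∧ I y E} ⊆ {y | I y F ∧ g • y = y} := fun y hy =>
      ⟨hy.1, D.fix_of_blk hg hE ha hy.2⟩
    have := Set.eq_of_subset_of_ncard_le hsub
      (by rw [D.card_fix_inter hg hFne, D.pair_blk F E (Ne.symm hEF)])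
    exact hne.2 ((Set.ext_iff.1 this x).2 ⟨hF, hx⟩).2
  · rintro x (rfl | hx)
    · exact D.smul_of_mem_Cen hg
    · exact D.fix_of_blk hg hE ha hx

theorem ncard_homology {g : G} {a : α} {E : β} (hg : g ∈ Cen G I a) (h1 : g ≠ 1) (hE : g • E = E)
    (ha : ¬ I a E) : (fx α g).ncard = k + 1 := by
  rw [D.fx_homology hg h1 hE ha, Set.ncard_insert_of_notMem (s := {x | I x E}) ha, D.card_pts]

/-- Elations are the central automorphisms without a fixed block off the centre. -/
theorem isEl_iff {g : G} {a : α} :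
    IsEl I k g a ↔ g ∈ Cen G I a ∧ g ≠ 1 ∧ ∀ E, g • E = E → I a E := by
  refine ⟨fun h => ⟨h.1, h.2.1, fun E hE => ?_⟩, fun h => ⟨h.1, h.2.1, ?_⟩⟩
  · by_contra ha
    have := D.ncard_homology h.1 h.2.1 hE ha
    rw [h.2.2] at this
    omega
  · have e : {E : β | g • E = E} = {E | I a E} :=
      Set.ext fun E => ⟨h.2.2 E, mem_Cen.1 h.1 E⟩
    rw [fx, D.fix_eq, e, D.card_blk]

theorem isEl_conj (h : G) {g : G} {a : α} (hg : IsEl I k g a) :
    IsEl I k (h * g * h⁻¹) (h • a) := by
  rw [D.isEl_iff] at hg ⊢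
  refine ⟨D.smul_mem_Cen h hg.1, fun e => hg.2.1 (conj_eq_one_iff.1 e), fun E hE => ?_⟩
  rw [mul_smul, mul_smul, smul_eq_iff_eq_inv_smul] at hE
  have := (D.smul_iff h a _).2 (hg.2.2 _ hE)
  rwa [smul_inv_smul] at this

theorem trans_point (a b : α) : ∃ g : G, g • a = b := by
  obtain ⟨E, hE, -⟩ := D.exists_blk a a
  obtain ⟨F, hF, -⟩ := D.exists_blk b b
  obtain ⟨g, hg, -⟩ := D.trans_flag a E b F hE hF
  exact ⟨g, hg⟩

/-- Some nontrivial central automorphism forces elations at every point. -/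
theorem exists_el (hc : ∃ (a : α) (g : G), g ∈ Cen G I a ∧ g ≠ 1) (a : α) :
    ∃ g : G, IsEl I k g a := by
  classical
  have := D.finite_group
  obtain ⟨b, g, hg, hg1⟩ := hc
  obtain ⟨h, rfl⟩ := D.trans_point b a
  by_contra hno
  push Not at hno
  let C := Cen G I (h • b)
  have hnt : ∃ g : C, g ≠ 1 :=
    ⟨⟨_, D.smul_mem_Cen h hg⟩, fun e => hg1 (conj_eq_one_iff.1 (congrArg Subtype.val e))⟩
  let X := {E : β // ¬ I (h • b) E}
  have hinv : ∀ (c : C) (E : β), ¬ I (h • b) E → ¬ I (h • b) (c.1 • E) := fun c E hE hc => by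
    apply hE
    rw [← D.smul_iff c.1, D.smul_of_mem_Cen c.2]
    exact hc
  let _ : MulAction C X :=
    { smul := fun c E => ⟨c.1 • E.1, hinv c E.1 E.2⟩
      one_smul := fun E => Subtype.ext (one_smul G E.1)
      mul_smul := fun c d E => Subtype.ext (mul_smul c.1 d.1 E.1) }
  have hval : ∀ (c : C) (E : X), (c • E).1 = c.1 • E.1 := fun _ _ => rfl
  have := Fintype.ofFinite X
  have := Fintype.ofFinite C
  -- each nontrivial element fixes exactly one block of `X`
  have hfix : ∀ c : C, c ≠ 1 → Fintype.card (fixedBy X c) = 1 := by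
    intro c hc
    have hc' : c.1 ≠ 1 := fun e => hc (Subtype.ext e)
    have hnel := hno c.1
    rw [D.isEl_iff] at hnel
    push Not at hnel
    obtain ⟨E, hE, hE'⟩ := hnel c.2 hc'
    rw [Fintype.card_eq_one_iff]
    refine ⟨⟨⟨E, hE'⟩, Subtype.ext hE⟩, ?_⟩
    rintro ⟨⟨F, hF'⟩, hF⟩
    have hF1 : c.1 • F = F := congrArg Subtype.val hF
    refine Subtype.ext (Subtype.ext (D.eq_of_blk_subset fun x hx => ?_))
    show I x E
    have h3 : x ∈ fx α c.1 := D.fix_of_blk c.2 hF1 hF' hx
    rw [D.fx_homology c.2 hc' hE hE', Set.mem_insert_iff] at h3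
    rcases h3 with rfl | h3
    · exact absurd hx hF'
    · exact h3
  have hX : 2 ≤ Fintype.card X := by
    rw [← Nat.card_eq_fintype_card]
    have e : Nat.card X = {E | I (h • b) E}ᶜ.ncard := Nat.card_coe_set_eq _
    rw [e, Set.ncard_compl, D.card_blk, D.card_eq]
    have := D.add_two_le
    omega
  obtain ⟨x₀⟩ : Nonempty X := Fintype.card_pos_iff.1 (by omega)
  let c₀ := Nat.card (stabilizer C x₀)
  have hstab : ∀ x : X, Nat.card (stabilizer C x) = c₀ := by
    intro x
    obtain ⟨f, hf, hf'⟩ := D.trans_anti (h • b) x₀.1 (h • b) x.1 x₀.2 x.2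
    have hC : ∀ d, d ∈ C → f * d * f⁻¹ ∈ C := fun d hd => by
      have := D.smul_mem_Cen f hd
      rwa [hf] at this
    have hC' : ∀ d, d ∈ C → f⁻¹ * d * f ∈ C := fun d hd => by
      have := D.smul_mem_Cen f⁻¹ hd
      rwa [inv_inv, inv_smul_eq_iff.2 hf.symm] at this
    refine Nat.card_congr
      { toFun := fun d => ⟨⟨f⁻¹ * d.1.1 * f, hC' _ d.1.2⟩, ?_⟩
        invFun := fun d => ⟨⟨f * d.1.1 * f⁻¹, hC _ d.1.2⟩, ?_⟩
        left_inv := fun d => Subtype.ext (Subtype.ext (by simp [mul_assoc]))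
        right_inv := fun d => Subtype.ext (Subtype.ext (by simp [mul_assoc])) }
    · refine Subtype.ext ?_
      show (f⁻¹ * d.1.1 * f) • x₀.1 = x₀.1
      have : d.1.1 • x.1 = x.1 := congrArg Subtype.val d.2
      rw [mul_smul, mul_smul, hf', this, inv_smul_eq_iff, hf']
    · refine Subtype.ext ?_
      show (f * d.1.1 * f⁻¹) • x.1 = x.1
      have : d.1.1 • x₀.1 = x₀.1 := congrArg Subtype.val d.2
      rw [mul_smul, mul_smul, inv_smul_eq_iff.2 hf'.symm, this, hf']
  have hs1 : ∑ c : C, Fintype.card (fixedBy X c) + 1 = Fintype.card C + Fintype.card X := by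
    rw [← Finset.add_sum_erase _ _ (Finset.mem_univ (1 : C)),
      Finset.sum_congr rfl fun c hc => hfix c (Finset.ne_of_mem_erase hc)]
    rw [Finset.sum_const, Finset.card_erase_of_mem (Finset.mem_univ _), Finset.card_univ,
      smul_eq_mul, mul_one]
    have e : Fintype.card (fixedBy X (1 : C)) = Fintype.card X :=
      Fintype.card_of_bijective (f := Subtype.val)
        ⟨Subtype.val_injective, fun x => ⟨⟨x, one_smul _ x⟩, rfl⟩⟩
    have : 0 < Fintype.card C := Fintype.card_pos
    omega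
  have hs2 : ∑ c : C, Fintype.card (fixedBy X c) = Fintype.card X * c₀ := by
    rw [← Fintype.card_sigma]
    have e : (Σ c : C, fixedBy X c) ≃ Σ x : X, stabilizer C x :=
      { toFun := fun p => ⟨p.2.1, p.1, p.2.2⟩
        invFun := fun p => ⟨p.2.1, p.1, p.2.2⟩
        left_inv := fun p => rfl
        right_inv := fun p => rfl }
    rw [Fintype.card_congr e, Fintype.card_sigma,
      Finset.sum_congr rfl fun x _ => by rw [← Nat.card_eq_fintype_card, hstab x]]
    simp
  let o := Nat.card (orbitRel.Quotient C X)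
  have := Fintype.ofFinite (orbitRel.Quotient C X)
  have hs3 : ∑ c : C, Fintype.card (fixedBy X c) = o * Fintype.card C := by
    rw [sum_card_fixedBy_eq_card_orbits_mul_card_group C X]
    simp [o, Nat.card_eq_fintype_card]
  obtain ⟨s, hs⟩ : c₀ ∣ Fintype.card C := by
    rw [← Nat.card_eq_fintype_card]
    exact Subgroup.card_subgroup_dvd_card _
  have hc₀ : 0 < c₀ := Nat.card_pos
  have hXo : Fintype.card X = o * s := by
    apply Nat.eq_of_mul_eq_mul_right hc₀
    rw [← hs2, hs3, hs]; ring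
  have key : o * c₀ * s + 1 = c₀ * s + o * s := by
    rw [← hs, ← hXo, ← hs1, hs3, hs]; ring
  have hs' : s = 1 := by
    have h1 : s ∣ o * c₀ * s + 1 := key ▸ ⟨c₀ + o, by ring⟩
    exact Nat.dvd_one.1 ((Nat.dvd_add_right ⟨o * c₀, by ring⟩).1 h1)
  -- so `C` fixes all of `X`
  obtain ⟨c, hc⟩ := hnt
  have hall : ∀ x : X, c • x = x := by
    intro x
    have : stabilizer C x = ⊤ := Subgroup.eq_top_of_card_eq _ (by
      rw [hstab x, Nat.card_eq_fintype_card, hs, hs', mul_one])
    exact mem_stabilizer_iff.1 (this ▸ Subgroup.mem_top c)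
  have := hfix c hc
  rw [Fintype.card_of_bijective (f := (Subtype.val : fixedBy X c → X))
    ⟨Subtype.val_injective, fun x => ⟨⟨x, hall x⟩, rfl⟩⟩] at this
  omega

theorem smul_ne {g : G} {a : α} (hg : IsEl I k g a) : ∃ y : α, g • y ≠ y := by
  by_contra hc
  push Not at hc
  exact hg.2.1 (D.faithful g hc)

/-- With elations, every line has a third point. -/
theorem exists_third (hel : ∀ a : α, ∃ g : G, IsEl I k g a) {a b : α} (hab : a ≠ b) :
    ∃ c ∈ ln I a b, c ≠ a ∧ c ≠ b := by
  obtain ⟨g, hg⟩ := hel a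
  obtain ⟨y, hy⟩ := D.smul_ne hg
  have hay : a ≠ y := fun e => hy (e ▸ D.smul_of_mem_Cen hg.1)
  obtain ⟨f, hfa, hfy⟩ := D.trans_pts a y a b hay hab
  have h := (D.smul_mem_ln f).2 (D.smul_mem_ln_cen (y := y) hg.1)
  rw [hfa, hfy] at h
  refine ⟨_, h, fun e => ?_, fun e => hy ?_⟩
  · have : f • g • y = f • g • a := by rw [e, D.smul_of_mem_Cen hg.1, hfa]
    exact hay (MulAction.injective g (MulAction.injective f this)).symm
  · exact MulAction.injective f (e.trans hfy.symm)

/-- The fixed-point set of an elation is contained in a block. -/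
theorem exists_axis (hel : ∀ a : α, ∃ g : G, IsEl I k g a) {w : G} {P : α} (hw : IsEl I k w P) :
    ∃ B, I P B ∧ fx α w = {x | I x B} := by
  classical
  have hP : P ∈ fx α w := D.smul_of_mem_Cen hw.1
  -- it suffices that the fixed points lie in one block
  suffices hsuff : ∃ B, fx α w ⊆ {x | I x B} by
    obtain ⟨B, hB⟩ := hsuff
    have e := Set.eq_of_subset_of_ncard_le hB (by rw [D.card_pts, hw.2.2])
    exact ⟨B, (Set.ext_iff.1 e P).1 hP, e⟩
  by_contra hno
  push Not at hno
  -- every fixed point carries an elation with the same fixed points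
  have hstep : ∀ Q ∈ fx α w, ∃ h : G, IsEl I k h Q ∧ fx α h = fx α w := by
    intro Q hQ
    by_cases hQP : Q = P
    · exact ⟨w, hQP ▸ hw, rfl⟩
    obtain ⟨A, hA, hAl⟩ : ∃ A ∈ fx α w, A ∉ ln I P Q := by
      by_contra hc
      push Not at hc
      obtain ⟨E, h1, h2⟩ := D.exists_blk P Q
      exact hno E fun x hx => hc x hx E h1 h2
    -- some central automorphism at `Q` does not commute with `w`
    obtain ⟨m, hm, hmw⟩ : ∃ m ∈ Cen G I Q, m * w * m⁻¹ * w⁻¹ ≠ 1 := by
      by_contra hc
      push Not at hc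
      obtain ⟨g₀, hg₀⟩ := hel Q
      obtain ⟨y, hy⟩ := D.smul_ne hg₀
      have hQy : Q ≠ y := fun e => hy (e ▸ D.smul_of_mem_Cen hg₀.1)
      obtain ⟨f, hfQ, hfy⟩ := D.trans_pts Q y Q P hQy hQP
      have hm := D.smul_mem_Cen f hg₀.1
      rw [hfQ] at hm
      have hmP : (f * g₀ * f⁻¹) • P ≠ P := fun e => hy (by
        rwa [← hfy, mul_smul, mul_smul, inv_smul_smul, smul_left_cancel_iff] at e)
      refine hw.2.1 (D.eq_one_of_two_cen (Ne.symm hmP) hw.1 ?_)
      have := D.smul_mem_Cen (f * g₀ * f⁻¹) hw.1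
      rwa [mul_inv_eq_one.1 (hc _ hm)] at this
    let h := m * w * m⁻¹ * w⁻¹
    have hhQ : h ∈ Cen G I Q := by
      have e : h = m * (w * m⁻¹ * w⁻¹) := by simp [h, mul_assoc]
      rw [e]
      have := D.smul_mem_Cen w (inv_mem hm)
      rw [show w • Q = Q from hQ] at this
      exact mul_mem hm this
    -- fixed points of `w` off the line are fixed by `h`
    have hoff : ∀ X ∈ fx α w, X ∉ ln I P Q → h • X = X := by
      intro X hX hXl
      have hQX : Q ≠ X := fun e => hXl (e ▸ right_mem_ln P Q)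
      have hPl : P ∉ ln I Q X := fun hc => hXl (by
        rw [ln_comm P Q, D.ln_eq hQX (a := Q) (b := X) hQP (left_mem_ln Q X) hc]
        exact right_mem_ln Q X)
      have h1 : m⁻¹ • X ∈ ln I Q X := D.smul_mem_ln_cen (inv_mem hm)
      have h2 : w • m⁻¹ • X = m⁻¹ • X := D.fix_of_ln hw.1 hQ hX hQX hPl h1
      show (m * w * m⁻¹ * w⁻¹) • X = X
      have h3 : w⁻¹ • X = X := inv_smul_eq_iff.2 (Eq.symm hX)
      rw [mul_smul, mul_smul, mul_smul, h3, h2, smul_inv_smul]
    have hQA : Q ≠ A := fun e => hAl (e ▸ right_mem_ln P Q)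
    -- every fixed point of `w` other than `P` is fixed by `h`
    have hsub : ∀ X ∈ fx α w, X ≠ P → h • X = X := by
      intro X hX hXP
      by_cases hXl : X ∈ ln I P Q
      · by_cases hXQ : X = Q
        · exact hXQ ▸ D.smul_of_mem_Cen hhQ
        have hlXQ : ln I X Q = ln I P Q :=
          D.ln_eq (Ne.symm hQP) hXQ hXl (right_mem_ln P Q)
        have hlXP : ln I X P = ln I P Q :=
          D.ln_eq (Ne.symm hQP) hXP hXl (left_mem_ln P Q)
        have hXA : X ≠ A := fun e => hAl (e ▸ hXl)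
        have hPl : P ∉ ln I X A := fun hc => hAl (by
          rw [← hlXP, D.ln_eq hXA hXP (left_mem_ln X A) hc]
          exact right_mem_ln X A)
        obtain ⟨Z, hZ, hZX, hZA⟩ := D.exists_third hel hXA
        have hZw : Z ∈ fx α w := D.fix_of_ln hw.1 hX hA hXA hPl hZ
        have hZl : Z ∉ ln I P Q := fun hc => hAl (by
          rw [← D.ln_eq (Ne.symm hQP) hZX hc hXl, D.ln_eq hXA hZX hZ (left_mem_ln X A)]
          exact right_mem_ln X A)
        have hQl : Q ∉ ln I A Z := fun hc => hAl (by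
          rw [D.ln_eq hXA (Ne.symm hZA) (right_mem_ln X A) hZ] at hc
          rw [← hlXQ, D.ln_eq hXA hXQ (left_mem_ln X A) hc]
          exact right_mem_ln X A)
        refine D.fix_of_ln hhQ (hoff A hA hAl) (hoff Z hZw hZl) (Ne.symm hZA) hQl ?_
        rw [D.ln_eq hXA (Ne.symm hZA) (right_mem_ln X A) hZ]
        exact left_mem_ln X A
      · exact hoff X hX hXl
    -- a third fixed point on the line through `Q` and `A`
    have hPQA : P ∉ ln I Q A := fun hc => hAl (by
      rw [ln_comm P Q, D.ln_eq hQA hQP (left_mem_ln Q A) hc]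
      exact right_mem_ln Q A)
    -- `h` is an elation
    have hel' : IsEl I k h Q := by
      rw [D.isEl_iff]
      refine ⟨hhQ, hmw, fun E hE => ?_⟩
      by_contra hQE
      have hfx := D.fx_homology hhQ hmw hE hQE
      obtain ⟨Z, hZ, hZQ, hZA⟩ := D.exists_third hel hQA
      have hZw : Z ∈ fx α w := D.fix_of_ln hw.1 hQ hA hQA hPQA hZ
      have hZP : Z ≠ P := fun e => hPQA (e ▸ hZ)
      have hAP : A ≠ P := fun e => hAl (by rw [e]; exact left_mem_ln P Q)
      have h1 : A ∈ fx α h := hsub A hA hAP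
      have h2 : Z ∈ fx α h := hsub Z hZw hZP
      rw [hfx, Set.mem_insert_iff] at h1 h2
      have h1' : I A E := h1.resolve_left (Ne.symm hQA)
      have h2' : I Z E := h2.resolve_left hZQ
      refine hQE ?_
      have hQm : Q ∈ ln I A Z := by
        rw [D.ln_eq hQA (Ne.symm hZA) (right_mem_ln Q A) hZ]
        exact left_mem_ln Q A
      exact hQm E h1' h2'
    refine ⟨h, hel', ?_⟩
    by_cases hPh : P ∈ fx α h
    · have hss : fx α w ⊆ fx α h := fun X hX =>
        (em (X = P)).elim (fun e => e ▸ hPh) (hsub X hX)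
      exact (Set.eq_of_subset_of_ncard_le hss (by rw [hel'.2.2, hw.2.2])).symm
    -- otherwise there is a stray fixed point
    exfalso
    obtain ⟨R, hR, hRw⟩ : ∃ R ∈ fx α h, R ∉ fx α w := by
      by_contra hc
      push Not at hc
      have := Set.eq_of_subset_of_ncard_le (s := fx α h) (t := fx α w) hc
        (by rw [hel'.2.2, hw.2.2])
      exact hPh (this ▸ hP)
    have hAP : A ≠ P := fun e => hAl (by rw [e]; exact left_mem_ln P Q)
    have hAh : h • A = A := hsub A hA hAP
    have hRA : R ≠ A := fun e => hRw (e ▸ hA)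
    have hQR : Q ∉ ln I R A := fun hc => hRw (D.fix_of_ln hw.1 hQ hA hQA hPQA (by
      rw [D.ln_eq hRA hQA hc (right_mem_ln R A)]
      exact left_mem_ln R A))
    obtain ⟨Z, hZ, hZR, hZA⟩ := D.exists_third hel hRA
    have hZh : Z ∈ fx α h := D.fix_of_ln hhQ hR hAh hRA hQR hZ
    have hPl : P ∉ ln I R A := fun hc => hPh (D.fix_of_ln hhQ hR hAh hRA hQR hc)
    have hZP : Z ≠ P := fun e => hPl (e ▸ hZ)
    have hZw : w • Z = Z := by
      have hh : fx α h = (fx α w \ {P}) ∪ {R} := by
        refine (Set.eq_of_subset_of_ncard_le ?_ ?_).symm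
        · rintro X (⟨hX, hXP⟩ | rfl)
          · exact hsub X hX hXP
          · exact hR
        · rw [hel'.2.2, Set.ncard_union_eq (by simp [hRw]), Set.ncard_sdiff_singleton_of_mem hP,
            hw.2.2, Set.ncard_singleton]
          have := D.two_le
          omega
      rw [hh] at hZh
      exact (hZh.resolve_right hZR).1
    apply hRw
    have hlAZ : ln I A Z = ln I R A := D.ln_eq hRA (Ne.symm hZA) (right_mem_ln R A) hZ
    refine D.fix_of_ln hw.1 hA hZw (Ne.symm hZA) (hlAZ ▸ hPl) ?_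
    rw [hlAZ]
    exact left_mem_ln R A
  -- so every other block meets the fixed points in `l` points
  have hmeet : ∀ E : β, {x | I x E ∧ x ∈ fx α w}.ncard = l := by
    intro E
    obtain ⟨Q, hQ, hQE⟩ : ∃ Q ∈ fx α w, ¬ I Q E := by
      by_contra hc
      push Not at hc
      exact hno E hc
    obtain ⟨h, hh, hhw⟩ := hstep Q hQ
    have hne : h • E ≠ E := fun e => hQE ((D.isEl_iff.1 hh).2.2 E e)
    rw [← hhw]
    exact D.card_fix_inter hh.1 hne
  -- double counting
  have := Fintype.ofFinite α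
  have := Fintype.ofFinite β
  have h := Finset.sum_card_bipartiteAbove_eq_sum_card_bipartiteBelow
    (s := (Finset.univ : Finset β)) (t := (fx α w).toFinset) (fun E x => I x E)
  have h1 : ∀ E : β, ((fx α w).toFinset.bipartiteAbove (fun E x => I x E) E).card = l := fun E => by
    rw [← hmeet E, Set.ncard_eq_toFinset_card']
    congr 1
    ext x; simp [Finset.bipartiteAbove, and_comm]
  have h2 : ∀ x : α, ((Finset.univ : Finset β).bipartiteBelow (fun E x => I x E) x).card = k :=
    fun x => by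
      rw [← D.card_blk x, Set.ncard_eq_toFinset_card']
      congr 1
      ext E; simp [Finset.bipartiteBelow]
  rw [Finset.sum_congr rfl fun E _ => h1 E, Finset.sum_congr rfl fun x _ => h2 x, Finset.sum_const,
    Finset.sum_const, Finset.card_univ, smul_eq_mul, smul_eq_mul, ← Set.ncard_eq_toFinset_card',
    hw.2.2, ← Nat.card_eq_fintype_card, D.card_eq] at h
  obtain ⟨j, hj⟩ := Nat.exists_eq_add_of_le D.two_le
  obtain ⟨i, hi⟩ := Nat.exists_eq_add_of_le D.add_two_le
  have hcount := D.count_flags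
  rw [hi, show k + 2 + i - 1 = k + 1 + i by omega] at hcount
  rw [hi] at h
  have hl := D.l_lt
  obtain ⟨k', rfl⟩ : ∃ k', k = k' + 1 := ⟨k - 1, by omega⟩
  rw [Nat.add_sub_cancel] at hcount
  nlinarith

end Design

end CfsgLib.ItoDesign63
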