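import Cfsg.Agent.Lib.ItoDesign63.Geometry
import Mathlib.Algebra.Group.TypeTags.Finite
import Mathlib.Algebra.Group.Subgroup.Map
import Mathlib.Algebra.BigOperators.Fin

/-!
# A frame of the translation group
-/

set_option autoImplicit false
set_option linter.unusedSectionVars false

open MulAction

namespace CfsgLib.ItoDesign63

namespace Full

variable {G α β : Type*} [Group G] [MulAction G α] [MulAction G β]
variable {I : α → β → Prop} {k l : ℕ} [Finite α] [Finite β] (D : Full G I k l)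
include D

/-- The translation group of `B`, written additively. -/
abbrev Tr (B : β) : Type _ := Additive ↥(D.T B)

@[reducible]
def commT (B : β) : CommGroup (D.T B) :=
  { (inferInstance : Group (D.T B)) with
    mul_comm := fun g h => Subtype.ext (D.T_comm g.2 h.2) }

instance instTr (B : β) : AddCommGroup (D.Tr B) :=
  @Additive.addCommGroup _ (D.commT B)

/-- A subgroup of `G` read inside the additive translation group. -/
def inT (B : β) (H : Subgroup G) : AddSubgroup (D.Tr B) :=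
  Subgroup.toAddSubgroup (H.subgroupOf (D.T B))

theorem mem_inT {B : β} {H : Subgroup G} {x : D.Tr B} : x ∈ D.inT B H ↔ x.toMul.1 ∈ H := Iff.rfl

theorem card_inT {B : β} {H : Subgroup G} (hH : H ≤ D.T B) :
    Nat.card (D.inT B H) = Nat.card H :=
  Nat.card_congr
    { toFun := fun x => ⟨x.1.toMul.1, x.2⟩
      invFun := fun g => ⟨Additive.ofMul ⟨g.1, hH g.2⟩, g.2⟩
      left_inv := fun _ => rfl
      right_inv := fun _ => rfl }

/-- A frame: `m` blocks and `m` points of the axis, dual to each other. -/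
structure Frame (B : β) (m : ℕ) where
  C : Fin m → β
  b : Fin m → α
  ne : ∀ i, C i ≠ B
  on : ∀ i, I (b i) B
  inc : ∀ i j, I (b i) (C j) ↔ i ≠ j
  two_le : 2 ≤ m
  card_eq : Nat.card (D.T B) = Nat.card (D.Tc (b ⟨0, by omega⟩) B) ^ m
  bij : Function.Bijective (fun x : ∀ i, D.inT B (D.Tc (b i) B) => ∑ i, (x i : D.Tr B))

theorem exists_frame (B : β) : ∃ m, Nonempty (D.Frame B m) := by
  classical
  have := D.toDesign.finite_group
  obtain ⟨c₀, hc₀⟩ := D.exists_pt B
  let P : ℕ → Prop := fun m => ∃ C : Fin m → β, (∀ i, C i ≠ B) ∧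
    ∀ g ∈ D.T B, (∀ i, g ∈ D.TC B (C i)) → g = 1
  have hP : ∃ m, P m := by
    have := Fintype.ofFinite {E : β // E ≠ B}
    refine ⟨_, fun i => ((Fintype.equivFin {E : β // E ≠ B}).symm i).1,
      fun i => ((Fintype.equivFin {E : β // E ≠ B}).symm i).2, fun g hg hall => ?_⟩
    refine D.toDesign.dual.faithful g fun E => ?_
    by_cases hE : E = B
    · exact hE ▸ D.smul_blk hg
    · have h := (hall (Fintype.equivFin _ ⟨E, hE⟩)).2
      simpa [mem_stabilizer_iff] using h
  obtain ⟨m, hm, hmin⟩ : ∃ m, P m ∧ ∀ n < m, ¬ P n :=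
    ⟨Nat.find hP, Nat.find_spec hP, fun n => Nat.find_min hP⟩
  obtain ⟨C, hC, hker⟩ := hm
  -- dual points
  have hb : ∀ j, ∃ b, I b B ∧ ∀ i, I b (C i) ↔ j ≠ i := by
    intro j
    obtain ⟨n, rfl⟩ : ∃ n, m = n + 1 := ⟨m - 1, by have := j.2; omega⟩
    have h := hmin n (by omega)
    simp only [P, not_exists, not_and, not_forall] at h
    obtain ⟨g, hg, hgC, hg1⟩ := h (fun i => C (j.succAbove i)) (fun i => hC _)
    obtain ⟨b, hb, hgb, -⟩ := D.T_centre hg hg1
    refine ⟨b, hb, fun i => ⟨fun hi e => hg1 (hker g hg fun r => ?_), fun hi => ?_⟩⟩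
    · rcases Fin.eq_self_or_eq_succAbove j r with rfl | ⟨r', rfl⟩
      · exact D.Tc_le_TC (e ▸ hi) (Subgroup.mem_inf.2 ⟨hg, hgb⟩)
      · exact hgC r'
    · obtain ⟨i', rfl⟩ := Fin.exists_succAbove_eq (Ne.symm hi)
      exact D.mem_of_Tc_le_TC hb (Subgroup.mem_inf.2 ⟨hg, hgb⟩) hg1 (hgC i')
  choose b hbB hinc using hb
  have hτ : ∀ i, Nat.card (D.inT B (D.Tc (b i) B)) = Nat.card (D.Tc c₀ B) := fun i => by
    rw [D.card_inT (show D.Tc (b i) B ≤ D.T B from inf_le_left), D.card_Tc_eq (hbB i) hc₀]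
  -- the product map is injective
  have hinj : Function.Injective
      (fun x : ∀ i, D.inT B (D.Tc (b i) B) => ∑ i, (x i : D.Tr B)) := by
    intro x y hxy
    funext j
    have h0 : ∑ i, ((x i : D.Tr B) - y i) = 0 := by
      rw [Finset.sum_sub_distrib, sub_eq_zero]; exact hxy
    rw [← Finset.add_sum_erase _ _ (Finset.mem_univ j)] at h0
    have h1 : ∀ i ∈ Finset.univ.erase j,
        (x i : D.Tr B) - y i ∈ D.inT B (D.TC B (C j)) := fun i hi =>
      D.Tc_le_TC ((hinc i j).2 (Finset.ne_of_mem_erase hi))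
        ((D.inT B (D.Tc (b i) B)).sub_mem (x i).2 (y i).2)
    have h2 : (x j : D.Tr B) - y j ∈ D.inT B (D.TC B (C j)) := by
      rw [eq_neg_of_add_eq_zero_left h0]
      exact neg_mem (sum_mem h1)
    have h3 : (((x j : D.Tr B) - y j).toMul : D.T B).1 = 1 :=
      D.Tc_inf_TC (hbB j) (fun h => (hinc j j).1 h rfl)
        ((D.inT B (D.Tc (b j) B)).sub_mem (x j).2 (y j).2) h2
    refine Subtype.ext (sub_eq_zero.1 ?_)
    exact Additive.toMul.injective (Subtype.ext h3)
  have hcardpi : Nat.card (∀ i, D.inT B (D.Tc (b i) B)) = Nat.card (D.Tc c₀ B) ^ m := by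
    rw [Nat.card_pi, Finset.prod_congr rfl (fun i _ => hτ i), Finset.prod_const, Finset.card_univ,
      Fintype.card_fin]
  -- the intersection of `m` stabilisers bounds the order
  have hle : ∀ j ≤ m, ∃ W : Subgroup G, W ≤ D.T B ∧ (∀ g ∈ W, ∀ i : Fin m, i.1 < j → g ∈ D.TC B (C i))
      ∧ Nat.card (D.T B) ≤ Nat.card (D.Tc c₀ B) ^ j * Nat.card W := by
    intro j
    induction j with
    | zero => exact fun _ => ⟨D.T B, le_rfl, fun _ _ i hi => absurd hi (by omega), by simp⟩
    | succ j ih =>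
      intro hj
      obtain ⟨W, hW, hWi, hWc⟩ := ih (by omega)
      refine ⟨W ⊓ D.TC B (C ⟨j, by omega⟩), inf_le_left.trans hW, fun g hg i hi => ?_, ?_⟩
      · rcases Nat.lt_or_eq_of_le (Nat.le_of_lt_succ hi) with h | h
        · exact hWi g hg.1 i h
        · have e : i = ⟨j, by omega⟩ := Fin.ext h
          exact e ▸ hg.2
      · refine hWc.trans ?_
        rw [pow_succ, mul_assoc]
        exact Nat.mul_le_mul_left _ (D.card_inf_TC (Ne.symm (hC _)) hc₀ W hW)
  obtain ⟨W, hW, hWi, hWc⟩ := hle m le_rfl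
  have hW1 : W = ⊥ := (Subgroup.eq_bot_iff_forall _).2 fun g hg =>
    hker g (hW hg) fun i => hWi g hg i i.2
  rw [hW1, Subgroup.card_bot, mul_one] at hWc
  have hT : Nat.card (D.Tr B) = Nat.card (D.T B) := rfl
  have hbij := hinj.bijective_of_nat_card_le (by rw [hT, hcardpi]; exact hWc)
  have hceq : Nat.card (D.T B) = Nat.card (D.Tc c₀ B) ^ m := by
    rw [← hT, ← hcardpi]; exact (Nat.card_congr (Equiv.ofBijective _ hbij)).symm
  have hm2 : 2 ≤ m := by
    by_contra hc
    have h1 := D.card_T hc₀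
    have h2 := (D.params hc₀).2.1
    have hk := D.two_le
    have h3 : 2 * (Nat.card (D.Tc c₀ B) - 1) ≤ k * (Nat.card (D.Tc c₀ B) - 1) :=
      Nat.mul_le_mul_right _ hk
    rcases (show m = 0 ∨ m = 1 by omega) with rfl | rfl
    · rw [pow_zero] at hceq; omega
    · rw [pow_one] at hceq; omega
  exact ⟨m, ⟨{
    C := C
    b := b
    ne := hC
    on := hbB
    inc := hinc
    two_le := hm2
    card_eq := by rw [hceq, D.card_Tc_eq hc₀ (hbB _)]
    bij := hbij }⟩⟩

end Full

end CfsgLib.ItoDesign63
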