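import Cfsg.Agent.Lib.ItoDesign63.Translation

/-!
# Consequences of regularity: lines meet blocks, transvection maps
-/

set_option autoImplicit false
set_option linter.unusedSectionVars false

open MulAction

namespace CfsgLib.ItoDesign63

namespace Full

variable {G α β : Type*} [Group G] [MulAction G α] [MulAction G β]
variable {I : α → β → Prop} {k l : ℕ} [Finite α] [Finite β] (D : Full G I k l)
include D

open Design (left_mem_ln right_mem_ln)

theorem exists_pt (B : β) : ∃ b, I b B := by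
  obtain ⟨b, hb⟩ : {x | I x B}.Nonempty :=
    Set.nonempty_of_ncard_ne_zero (by rw [D.card_pts]; have := D.two_le; omega)
  exact ⟨b, hb⟩

/-- Translations are transitive off the block. -/
theorem exists_translation {B : β} {x y : α} (hx : ¬ I x B) (hy : ¬ I y B) :
    ∃ g ∈ D.T B, g • x = y := by
  have := D.toDesign.finite_group
  obtain ⟨b, hb⟩ := D.exists_pt B
  let f : D.T B → {z : α | ¬ I z B} := fun g => ⟨g.1 • x, fun h => hx (by
    rw [← D.smul_iff g.1, D.smul_blk g.2]; exact h)⟩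
  have hinj : Function.Injective f := fun g h e => by
    have e' : g.1 • x = h.1 • x := congrArg Subtype.val e
    refine Subtype.ext (inv_mul_eq_one.1 (D.semireg (mul_mem (inv_mem g.2) h.2) hx ?_))
    rw [mul_smul, ← e', inv_smul_smul]
  have hcard : Nat.card (D.T B) = Nat.card {z : α | ¬ I z B} := by
    rw [(D.params hb).1, Nat.card_coe_set_eq, D.card_off]
  obtain ⟨g, hg⟩ := (hinj.bijective_of_nat_card_le hcard.ge).2 ⟨y, hy⟩
  exact ⟨g.1, g.2, congrArg Subtype.val hg⟩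

theorem T_inf_T {B C : β} (hBC : B ≠ C) {g : G} (hB : g ∈ D.T B) (hC : g ∈ D.T C) : g = 1 := by
  by_contra h
  apply hBC
  exact D.toDesign.eq_of_blk_subset fun a ha => by
    by_contra hc
    exact h (D.semireg hC hc (D.smul_of_mem_T hB ha))

/-- Every line meets every block. -/
theorem ln_meets {a b : α} (hab : a ≠ b) (E : β) : ∃ c ∈ ln I a b, I c E := by
  by_cases ha : I a E
  · exact ⟨a, left_mem_ln a b, ha⟩
  by_cases hb : I b E
  · exact ⟨b, right_mem_ln a b, hb⟩
  obtain ⟨g, hg, rfl⟩ := D.exists_translation ha hb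
  have hg1 : g ≠ 1 := fun e => hab (by rw [e, one_smul])
  obtain ⟨c, hc, hgc, -⟩ := D.T_centre hg hg1
  exact ⟨c, D.toDesign.cen_mem_ln hgc (Ne.symm hab), hc⟩

/-- A line off a block meets it once. -/
theorem meet_unique {a b c d : α} {E : β} (hab : a ≠ b) (ha : ¬ I a E) (hc : c ∈ ln I a b)
    (hd : d ∈ ln I a b) (hcE : I c E) (hdE : I d E) : c = d := by
  by_contra hcd
  apply ha
  have : a ∈ ln I c d := by rw [D.toDesign.ln_eq hab hcd hc hd]; exact left_mem_ln a b
  exact this E hcE hdE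

theorem exists_Tc_smul {c x y : α} {B : β} (hc : I c B) (hx : ¬ I x B) (hy : y ∈ ln I c x)
    (hyc : y ≠ c) : ∃ g ∈ D.Tc c B, g • x = y := by
  by_cases hxy : x = y
  · exact ⟨1, one_mem _, by rw [one_smul, hxy]⟩
  have hcx : c ≠ x := fun e => hx (e ▸ hc)
  have hl : ln I x y = ln I c x := D.toDesign.ln_eq hcx hxy (right_mem_ln c x) hy
  have hyB : ¬ I y B := fun h => hyc (D.meet_unique hxy hx (right_mem_ln x y)
    (hl ▸ left_mem_ln c x) h hc)
  obtain ⟨g, hg, rfl⟩ := D.exists_translation hx hyB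
  have hg1 : g ≠ 1 := fun e => hxy (by rw [e, one_smul])
  obtain ⟨d, hd, hgd, -⟩ := D.T_centre hg hg1
  have : d = c := D.meet_unique hxy hx (D.toDesign.cen_mem_ln hgd (Ne.symm hxy))
    (hl ▸ left_mem_ln c x) hd hc
  exact ⟨g, Subgroup.mem_inf.2 ⟨hg, this ▸ hgd⟩, rfl⟩

theorem exists_TC_smul {B C : β} {x y : α} (hx : ¬ I x B) (hy : ¬ I y B) (hxC : I x C)
    (hyC : I y C) : ∃ g ∈ D.TC B C, g • x = y := by
  obtain ⟨g, hg, rfl⟩ := D.exists_translation hx hy
  refine ⟨g, ⟨hg, ?_⟩, rfl⟩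
  by_cases hg1 : g = 1
  · exact hg1 ▸ one_mem _
  have hne : g • x ≠ x := fun e => hg1 (D.semireg hg hx e)
  obtain ⟨c, hc, hgc, -⟩ := D.T_centre hg hg1
  have : I c C := D.toDesign.cen_mem_ln hgc hne C hxC hyC
  exact mem_Cen.1 hgc C this

theorem Tc_le_TC {b : α} {B C : β} (hb : I b C) : D.Tc b B ≤ D.TC B C := fun g hg =>
  ⟨hg.1, mem_Cen.1 hg.2 C hb⟩

theorem mem_of_Tc_le_TC {b : α} {B C : β} (hbB : I b B) {g : G} (hg : g ∈ D.Tc b B) (h1 : g ≠ 1)
    (hC : g ∈ D.TC B C) : I b C := by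
  obtain ⟨c, hc, hcC, hgc⟩ := (D.mem_fix_blk_iff hg.1 h1).1 hC.2
  by_contra hne
  have hbc : b ≠ c := fun e => hne (e ▸ hcC)
  exact h1 (D.toDesign.eq_one_of_two_cen hbc hg.2 hgc)

theorem Tc_inf_TC {b : α} {B C : β} (hbB : I b B) (hbC : ¬ I b C) {g : G} (hg : g ∈ D.Tc b B)
    (hC : g ∈ D.TC B C) : g = 1 := by
  by_contra h1
  exact hbC (D.mem_of_Tc_le_TC hbB hg h1 hC)

/-- The translation group has `τ` times the order of a block stabiliser. -/
theorem card_T_eq {B C : β} (hBC : B ≠ C) {b : α} (hb : I b B) :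
    Nat.card (D.T B) = Nat.card (D.TC B C) * Nat.card (D.Tc b B) := by
  obtain ⟨-, h2, hk⟩ := D.params hb
  rw [D.card_T hb, D.card_TC hBC hb]
  obtain ⟨q, hq⟩ : ∃ q, Nat.card (D.Tc b B) = q + 1 := ⟨Nat.card (D.Tc b B) - 1, by omega⟩
  rw [hq] at hk ⊢
  rw [Nat.add_sub_cancel]
  have : k = (q + 1) * l + 1 := by have := D.two_le; omega
  rw [this]; ring

theorem card_inf_TC {B C : β} (hBC : B ≠ C) {b : α} (hb : I b B) (W : Subgroup G) (hW : W ≤ D.T B) :
    Nat.card W ≤ Nat.card (D.Tc b B) * Nat.card (W ⊓ D.TC B C : Subgroup G) := by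
  have := D.toDesign.finite_group
  have h := Nat.card_le_card_of_injective _
    (Subgroup.quotientSubgroupOfEmbeddingOfLE (D.TC B C) hW).injective
  have e1 := Subgroup.card_eq_card_quotient_mul_card_subgroup ((D.TC B C).subgroupOf W)
  have e2 := Subgroup.card_eq_card_quotient_mul_card_subgroup ((D.TC B C).subgroupOf (D.T B))
  have e3 : Nat.card ((D.TC B C).subgroupOf (D.T B)) = Nat.card (D.TC B C) :=
    Nat.card_congr (Subgroup.subgroupOfEquivOfLe (show D.TC B C ≤ D.T B from inf_le_left)).toEquiv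
  have e4 : Nat.card ((D.TC B C).subgroupOf W) = Nat.card (W ⊓ D.TC B C : Subgroup G) := by
    rw [← Subgroup.inf_subgroupOf_left]
    exact Nat.card_congr (Subgroup.subgroupOfEquivOfLe inf_le_left).toEquiv
  rw [e3, D.card_T_eq hBC hb, mul_comm (Nat.card (D.TC B C))] at e2
  have e5 := Nat.eq_of_mul_eq_mul_right Nat.card_pos e2
  rw [← e5] at h
  rw [e4] at e1
  rw [e1]
  exact Nat.mul_le_mul_right _ h

/-- The commutator of a translation with an elation centred on the axis. -/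
def br (_ : Full G I k l) (h n : G) : G := n * h * n⁻¹ * h⁻¹

theorem br_mem {c : α} {B C : β} (hc : I c B) {h n : G} (hh : h ∈ D.Tc c C) (hn : n ∈ D.T B) :
    D.br h n ∈ D.Tc c B := by
  refine Subgroup.mem_inf.2 ⟨?_, ?_⟩
  · have h1 := D.T_conj h (inv_mem hn)
    rw [mem_Cen.1 hh.2 B hc] at h1
    have := mul_mem hn h1
    simpa [br, mul_assoc] using this
  · have h1 := D.toDesign.smul_mem_Cen n hh.2
    rw [D.smul_of_mem_T hn hc] at h1
    have hinv : h⁻¹ ∈ Cen G I c := inv_mem (Subgroup.mem_inf.1 hh).2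
    exact mul_mem h1 hinv

theorem commute_of_TC {B C : β} (hBC : B ≠ C) {h u : G} (hh : h ∈ D.TC C B) (hu : u ∈ D.TC B C) :
    u * h = h * u := by
  rw [← commutatorElement_eq_one_iff_mul_comm, commutatorElement_def]
  refine D.T_inf_T hBC ?_ ?_
  · have h1 := D.T_conj h (inv_mem hu.1)
    rw [show h • B = B from hh.2] at h1
    simpa [mul_assoc] using mul_mem hu.1 h1
  · have h1 := D.T_conj u hh.1
    rw [show u • C = C from hu.2] at h1
    exact mul_mem h1 (inv_mem hh.1)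

theorem eq_one_of_br {B C : β} {h n : G} (hh : h ∈ D.T C) (hn : n ∈ D.T B) (hnC : n ∉ D.TC B C)
    (h0 : D.br h n = 1) : h = 1 := by
  have hne : C ≠ n • C := fun e => hnC ⟨hn, e.symm⟩
  refine D.T_inf_T hne hh ?_
  have h1 := D.T_conj n hh
  rwa [show n * h * n⁻¹ = h from mul_inv_eq_one.1 h0] at h1

theorem br_mul_left {c : α} {B C : β} (hBC : B ≠ C) (hcB : I c B) (hcC : I c C) {h h' n : G}
    (hh : h ∈ D.TC C B) (hh' : h' ∈ D.Tc c C) (hn : n ∈ D.T B) :
    D.br (h * h') n = D.br h n * D.br h' n := by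
  have hu : D.br h' n ∈ D.TC B C := D.Tc_le_TC hcC (D.br_mem hcB hh' hn)
  have hc := D.commute_of_TC hBC hh hu
  have e : D.br (h * h') n = D.br h n * (h * D.br h' n * h⁻¹) := by simp [br, mul_assoc]
  rw [e, ← hc, mul_inv_cancel_right]

theorem br_mul_right {c : α} {B C : β} (hcB : I c B) {h n n' : G} (hh : h ∈ D.Tc c C)
    (hn : n ∈ D.T B) (hn' : n' ∈ D.T B) : D.br h (n * n') = D.br h n * D.br h n' := by
  have h1 := (D.br_mem hcB hh hn).1
  have h2 := (D.br_mem hcB hh hn').1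
  have e : D.br h (n * n') = n * D.br h n' * n⁻¹ * D.br h n := by simp [br, mul_assoc]
  rw [e, D.T_comm hn h2, mul_inv_cancel_right, D.T_comm h2 h1]

end Full

end CfsgLib.ItoDesign63
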