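import Cfsg.Agent.Lib.ItoDesign63.Psl
import Mathlib.LinearAlgebra.Matrix.NonsingularInverse
import Mathlib.LinearAlgebra.Matrix.Trace
import Mathlib.GroupTheory.GroupAction.MultipleTransitivity
import Mathlib.Tactic.FieldSimp

/-!
# The design of an intransitive subgroup of index equal to the degree
-/

set_option autoImplicit false
set_option linter.unusedSectionVars false

open MulAction
open scoped Pointwise

namespace CfsgLib.ItoDesign63

open Matrix in
/-- A regular square incidence matrix with constant column products has constant row products. -/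
theorem dual_products {X : Type*} [Fintype X] [DecidableEq X] (M : Matrix X X ℚ) (k l : ℚ)
    (hkl : k - l ≠ 0) (hv : k - l + l * Fintype.card X ≠ 0)
    (hMM : M * Mᵀ = (k - l) • (1 : Matrix X X ℚ) + l • Matrix.of (fun _ _ => 1))
    (hMJ : M * Matrix.of (fun _ _ => (1 : ℚ)) = k • Matrix.of (fun _ _ => (1 : ℚ)))
    (hJM : Matrix.of (fun _ _ => (1 : ℚ)) * M = k • Matrix.of (fun _ _ => (1 : ℚ))) :
    Mᵀ * M = (k - l) • (1 : Matrix X X ℚ) + l • Matrix.of (fun _ _ => 1) ∧ IsUnit M := by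
  set J : Matrix X X ℚ := Matrix.of (fun _ _ => (1 : ℚ)) with hJ
  have hJJ : J * J = (Fintype.card X : ℚ) • J := by
    ext a b; simp [hJ, Matrix.mul_apply]
  have hinv : M * (Mᵀ * ((k - l)⁻¹ • ((1 : Matrix X X ℚ) - (l / (k - l + l * Fintype.card X)) • J))) = 1 := by
    rw [← Matrix.mul_assoc, hMM]
    simp only [Matrix.mul_smul, Matrix.mul_sub, Matrix.add_mul, Matrix.smul_mul, Matrix.one_mul,
      Matrix.mul_one, hJJ, smul_add, smul_sub, smul_smul]
    ext a b
    simp only [hJ, Matrix.add_apply, Matrix.sub_apply, Matrix.smul_apply, smul_eq_mul,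
      Matrix.of_apply]
    field_simp
    ring
  have hu : IsUnit M := (Matrix.isUnit_iff_isUnit_det M).2 (Matrix.isUnit_det_of_right_inverse hinv)
  refine ⟨hu.mul_left_cancel ?_, hu⟩
  rw [← Matrix.mul_assoc, hMM]
  simp only [Matrix.mul_add, Matrix.add_mul, Matrix.mul_smul, Matrix.smul_mul, Matrix.one_mul,
    Matrix.mul_one, hMJ, hJM]

open Matrix in
/-- Intertwined permutations have equally many fixed points. -/
theorem trace_perm {X : Type*} [Fintype X] [DecidableEq X] (M : Matrix X X ℚ) (hM : IsUnit M)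
    (σ τ : Equiv.Perm X) (h : ∀ a b, M (σ a) (τ b) = M a b) :
    (Finset.univ.filter fun a => σ a = a).card = (Finset.univ.filter fun a => τ a = a).card := by
  let P : Matrix X X ℚ := Matrix.of fun a b => if σ a = b then 1 else 0
  let Q : Matrix X X ℚ := Matrix.of fun a b => if τ a = b then 1 else 0
  have hPQ : P * M = M * Q := by
    ext a b
    simp only [Matrix.mul_apply, Matrix.of_apply, P, Q, ite_mul, one_mul, zero_mul, mul_ite, mul_one, mul_zero]
    rw [Finset.sum_ite_eq, if_pos (Finset.mem_univ _), Finset.sum_eq_single (τ.symm b)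
      (fun c _ hc => if_neg fun e => hc (by rw [← e, Equiv.symm_apply_apply]))
      (by simp), if_pos (Equiv.apply_symm_apply τ b), ← h a (τ.symm b), Equiv.apply_symm_apply]
  have hdet : IsUnit M.det := (Matrix.isUnit_iff_isUnit_det M).1 hM
  have htr : P.trace = Q.trace := by
    rw [show P = M * Q * M⁻¹ by rw [← hPQ, Matrix.mul_assoc, Matrix.mul_nonsing_inv _ hdet, Matrix.mul_one],
      Matrix.trace_mul_comm, ← Matrix.mul_assoc, Matrix.nonsing_inv_mul _ hdet, Matrix.one_mul]
  have e1 : P.trace = ((Finset.univ.filter fun a => σ a = a).card : ℚ) := by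
    rw [Finset.natCast_card_filter]; rfl
  have e2 : Q.trace = ((Finset.univ.filter fun a => τ a = a).card : ℚ) := by
    rw [Finset.natCast_card_filter]; rfl
  rw [e1, e2] at htr
  exact_mod_cast htr

/-- Two orbits when transitive on the diagonal and on the rest. -/
theorem card_quot_eq_two {K X : Type*} [Group K] [MulAction K X] (P : X → Prop)
    (hP : ∀ (g : K) x, P (g • x) ↔ P x) (x₀ x₁ : X) (h0 : P x₀) (h1 : ¬ P x₁)
    (t0 : ∀ x, P x → ∃ g : K, g • x₀ = x) (t1 : ∀ x, ¬ P x → ∃ g : K, g • x₁ = x) :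
    Nat.card (orbitRel.Quotient K X) = 2 := by
  classical
  let f : orbitRel.Quotient K X → Bool :=
    Quotient.lift (fun x => decide (P x)) fun a b hab => by
      obtain ⟨g, rfl⟩ := hab
      simp [hP]
  have hf : Function.Bijective f := by
    constructor
    · intro p q
      induction p, q using Quotient.inductionOn₂ with
      | h a b =>
      intro h
      refine Quotient.sound ?_
      have h' : P a ↔ P b := by simpa [f] using h
      show a ∈ orbit K b
      by_cases ha : P a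
      · obtain ⟨g, rfl⟩ := t0 a ha; obtain ⟨g', rfl⟩ := t0 b (h'.1 ha)
        exact ⟨g * g'⁻¹, by simp [mul_smul]⟩
      · obtain ⟨g, rfl⟩ := t1 a ha; obtain ⟨g', rfl⟩ := t1 b (fun hb => ha (h'.2 hb))
        exact ⟨g * g'⁻¹, by simp [mul_smul]⟩
    · intro c
      cases c
      · exact ⟨Quotient.mk _ x₁, by simp [f, h1]⟩
      · exact ⟨Quotient.mk _ x₀, by simp [f, h0]⟩
  rw [Nat.card_congr (Equiv.ofBijective f hf)]
  simp

/-- With only two orbits, two classes of an invariant property are two orbits. -/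
theorem exists_smul_of_two {K X : Type*} [Group K] [MulAction K X] [Finite X]
    (h2 : Nat.card (orbitRel.Quotient K X) = 2) (P : X → Prop) (hP : ∀ (g : K) x, P (g • x) ↔ P x)
    {x₀ x y : X} (h0 : P x₀) (hx : ¬ P x) (hy : ¬ P y) : ∃ g : K, g • x = y := by
  classical
  by_contra hc
  let f : Fin 3 → orbitRel.Quotient K X := ![Quotient.mk _ x₀, Quotient.mk _ x, Quotient.mk _ y]
  have hne : ∀ a b, P a → ¬ P b → (Quotient.mk _ a : orbitRel.Quotient K X) ≠ Quotient.mk _ b :=
    fun a b ha hb e => by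
      obtain ⟨g, rfl⟩ := Quotient.exact e
      exact hb ((hP g b).1 ha)
  have hxy : (Quotient.mk _ x : orbitRel.Quotient K X) ≠ Quotient.mk _ y := fun e => by
    obtain ⟨g, hg⟩ := Quotient.exact e
    exact hc ⟨g⁻¹, inv_smul_eq_iff.2 hg.symm⟩
  have hf : Function.Injective f := by
    intro i j h
    fin_cases i <;> fin_cases j <;> first
      | rfl
      | exact absurd h (hne x₀ x h0 hx)
      | exact absurd h.symm (hne x₀ x h0 hx)
      | exact absurd h (hne x₀ y h0 hy)
      | exact absurd h.symm (hne x₀ y h0 hy)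
      | exact absurd h hxy
      | exact absurd h.symm hxy
  have := Nat.card_le_card_of_injective f hf
  rw [h2, Nat.card_fin] at this
  omega

/-- Actions with equally many fixed points have equally many orbits. -/
theorem card_quot_eq {K X Y : Type*} [Group K] [Finite K] [MulAction K X] [MulAction K Y] [Finite X]
    [Finite Y] (h : ∀ g : K, Nat.card (fixedBy X g) = Nat.card (fixedBy Y g)) :
    Nat.card (orbitRel.Quotient K X) = Nat.card (orbitRel.Quotient K Y) := by
  classical
  have := Fintype.ofFinite K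
  have := Fintype.ofFinite X
  have := Fintype.ofFinite Y
  have h1 := sum_card_fixedBy_eq_card_orbits_mul_card_group K X
  have h2 := sum_card_fixedBy_eq_card_orbits_mul_card_group K Y
  simp only [← Nat.card_eq_fintype_card] at h1 h2
  rw [Finset.sum_congr rfl fun g _ => h g, h2] at h1
  exact (Nat.eq_of_mul_eq_mul_right Nat.card_pos h1).symm

theorem card_fixedBy_prod {K X : Type*} [Group K] [MulAction K X] (g : K) :
    Nat.card (fixedBy (X × X) g) = Nat.card (fixedBy X g) * Nat.card (fixedBy X g) := by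
  rw [← Nat.card_prod]
  exact Nat.card_congr
    { toFun := fun p => (⟨p.1.1, congrArg Prod.fst p.2⟩, ⟨p.1.2, congrArg Prod.snd p.2⟩)
      invFun := fun p => ⟨(p.1.1, p.2.1), Prod.ext p.1.2 p.2.2⟩
      left_inv := fun _ => rfl
      right_inv := fun _ => rfl }

variable {G Ω : Type*} [Group G] [Finite G] [MulAction G Ω] [FaithfulSMul G Ω] [Finite Ω]

/-- Ito's theorem. -/
theorem main (h2 : MulAction.IsMultiplyPretransitive G Ω 2) (H : Subgroup G)
    (hidx : H.index = Nat.card Ω) (hnt : ¬ MulAction.IsPretransitive H Ω)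
    (hfix : ∀ a : Ω, ∃ h : H, h • a ≠ a)
    (hunf : ∃ a : Ω, ∃ h : H, h ≠ 1 ∧ ∀ b ∈ MulAction.orbit H a, h • b = b) :
    ∃ (m : ℕ) (F : Type) (_ : Field F) (_ : Fintype F), 2 ≤ m ∧
      Nat.card Ω = (Fintype.card F ^ (m + 1) - 1) / (Fintype.card F - 1) ∧
      ∃ N : Subgroup G, N.Normal ∧
        Nonempty (N ≃* Matrix.ProjectiveSpecialLinearGroup (Fin (m + 1)) F) ∧
        Subgroup.centralizer (N : Set G) = ⊥ := by
  classical
  obtain ⟨a₀, h₀, h₀1, h₀fix⟩ := hunf
  have := Fintype.ofFinite Ω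
  have := Fintype.ofFinite (G ⧸ H)
  let Δ : Set Ω := orbit H a₀
  have hΔ : ∀ (h : G), h ∈ H → h • Δ = Δ := fun h hh => smul_orbit (⟨h, hh⟩ : H) a₀
  let blk : G ⧸ H → Set Ω := fun q => Quotient.liftOn' q (fun g => g • Δ) (fun g g' hgg => by
    rw [QuotientGroup.leftRel_apply] at hgg
    show g • Δ = g' • Δ
    conv_rhs => rw [← mul_inv_cancel_left g g', mul_smul, hΔ _ hgg])
  have hblk : ∀ (g : G) (q : G ⧸ H), blk (g • q) = g • blk q := by
    intro g q
    induction q using Quotient.inductionOn' with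
    | h u =>
      show (g * u) • Δ = g • u • Δ
      rw [mul_smul]
  let q₀ : G ⧸ H := QuotientGroup.mk 1
  have hq₀ : blk q₀ = Δ := one_smul G Δ
  have hstab : ∀ g : G, g • q₀ = q₀ ↔ g ∈ H := fun g => by
    show (QuotientGroup.mk (g * 1) : G ⧸ H) = QuotientGroup.mk 1 ↔ _
    rw [mul_one, QuotientGroup.eq]
    simp
  let I : G ⧸ H → Ω → Prop := fun q a => a ∈ blk q
  have hsmul : ∀ (g : G) q a, I (g • q) (g • a) ↔ I q a := fun g q a => by
    simp only [I, hblk, Set.smul_mem_smul_set_iff]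
  have hcardX : Nat.card (G ⧸ H) = Nat.card Ω := by rw [← hidx]; rfl
  have t2 : ∀ {a b c d : Ω}, a ≠ b → c ≠ d → ∃ g : G, g • a = c ∧ g • b = d :=
    fun h h' => is_two_pretransitive_iff.1 h2 h h'
  -- size of `Δ`
  obtain ⟨k, hk⟩ : ∃ k, k = Δ.ncard := ⟨_, rfl⟩
  obtain ⟨a₁, ha₁, ha₁'⟩ : ∃ a₁ ∈ Δ, a₁ ≠ a₀ := by
    obtain ⟨h, hh⟩ := hfix a₀
    exact ⟨h • a₀, ⟨h, rfl⟩, hh⟩
  have hk2 : 2 ≤ k := by
    rw [hk]
    exact (Set.one_lt_ncard (Set.toFinite _)).2 ⟨a₁, ha₁, a₀, mem_orbit_self a₀, ha₁'⟩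
  have hk2' : k + 2 ≤ Nat.card Ω := by
    obtain ⟨c, hc⟩ : ∃ c, c ∉ Δ := by
      by_contra hc
      push Not at hc
      exact hnt ⟨fun x y => by
        obtain ⟨g, rfl⟩ := hc x; obtain ⟨g', rfl⟩ := hc y
        exact ⟨g' * g⁻¹, by simp [mul_smul]⟩⟩
    obtain ⟨h, hh⟩ := hfix c
    have hc' : h • c ∉ Δ := fun hm => hc (by
      obtain ⟨g, hg⟩ := hm
      exact ⟨h⁻¹ * g, by show (h⁻¹ * g) • a₀ = c; rw [mul_smul, inv_smul_eq_iff]; exact hg⟩)
    have : 2 ≤ Δᶜ.ncard := (Set.one_lt_ncard (Set.toFinite _)).2 ⟨h • c, hc', c, hc, hh⟩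
    rw [Set.ncard_compl] at this
    omega
  have hcblk : ∀ q, (blk q).ncard = k := fun q => by
    induction q using Quotient.inductionOn' with
    | h u =>
      show (u • Δ).ncard = k
      rw [hk, ← Set.image_smul, Set.ncard_image_of_injective _ (MulAction.injective u)]
  -- replication numbers
  obtain ⟨r, hr⟩ : ∃ r, ∀ a, {q | I q a}.ncard = r := by
    refine ⟨{q | I q a₀}.ncard, fun a => ?_⟩
    obtain ⟨g, rfl⟩ : ∃ g : G, g • a₀ = a := by
      by_cases h : a = a₀
      · exact ⟨1, by rw [one_smul, h]⟩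
      · obtain ⟨g, hg, -⟩ := t2 (Ne.symm ha₁') h; exact ⟨g, hg⟩
    rw [show {q | I q (g • a₀)} = (fun q => g • q) '' {q | I q a₀} from ?_,
      Set.ncard_image_of_injective _ (MulAction.injective g)]
    ext q
    refine ⟨fun hq => ⟨g⁻¹ • q, (hsmul g _ _).1 (by rwa [smul_inv_smul]), smul_inv_smul g q⟩, ?_⟩
    rintro ⟨q', hq', rfl⟩
    exact (hsmul g q' a₀).2 hq'
  have hrk : r = k := by
    have h := Finset.sum_card_bipartiteAbove_eq_sum_card_bipartiteBelow
      (s := (Finset.univ : Finset (G ⧸ H))) (t := (Finset.univ : Finset Ω)) I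
    have e1 : ∀ q, ((Finset.univ : Finset Ω).bipartiteAbove I q).card = k := fun q => by
      rw [← hcblk q, Set.ncard_eq_toFinset_card']; congr 1; ext a; simp [Finset.bipartiteAbove, I]
    have e2 : ∀ a, ((Finset.univ : Finset (G ⧸ H)).bipartiteBelow I a).card = r := fun a => by
      rw [← hr a, Set.ncard_eq_toFinset_card']; congr 1; ext q; simp [Finset.bipartiteBelow]
    rw [Finset.sum_congr rfl fun q _ => e1 q, Finset.sum_congr rfl fun a _ => e2 a, Finset.sum_const,
      Finset.sum_const, Finset.card_univ, Finset.card_univ, ← Nat.card_eq_fintype_card,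
      ← Nat.card_eq_fintype_card, hcardX, smul_eq_mul, smul_eq_mul] at h
    exact (Nat.eq_of_mul_eq_mul_left (by omega) h).symm
  subst hrk
  obtain ⟨l, hl⟩ : ∃ l, ∀ a b, a ≠ b → {q | I q a ∧ I q b}.ncard = l := by
    refine ⟨{q | I q a₁ ∧ I q a₀}.ncard, fun a b hab => ?_⟩
    obtain ⟨g, rfl, rfl⟩ := t2 ha₁' hab
    rw [show {q | I q (g • a₁) ∧ I q (g • a₀)} = (fun q => g • q) '' {q | I q a₁ ∧ I q a₀} from ?_,
      Set.ncard_image_of_injective _ (MulAction.injective g)]
    ext q
    refine ⟨fun hq => ⟨g⁻¹ • q, ⟨(hsmul g _ _).1 (by rw [smul_inv_smul]; exact hq.1),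
      (hsmul g _ _).1 (by rw [smul_inv_smul]; exact hq.2)⟩, smul_inv_smul g q⟩, ?_⟩
    rintro ⟨q', hq', rfl⟩
    exact ⟨(hsmul g _ _).2 hq'.1, (hsmul g _ _).2 hq'.2⟩
  have hcount : r * (r - 1) = (Nat.card Ω - 1) * l := by
    have h := Finset.sum_card_bipartiteAbove_eq_sum_card_bipartiteBelow
      (s := Finset.univ.filter fun q : G ⧸ H => I q a₀) (t := Finset.univ.erase a₀) I
    have h1 : ∀ q ∈ Finset.univ.filter (fun q : G ⧸ H => I q a₀),
        ((Finset.univ.erase a₀).bipartiteAbove I q).card = r - 1 := by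
      intro q hq
      have hq' : a₀ ∈ blk q := (Finset.mem_filter.1 hq).2
      have e : (Finset.univ.erase a₀).bipartiteAbove I q = (blk q).toFinset.erase a₀ := by
        ext b; simp [Finset.bipartiteAbove, I, and_comm]
      rw [e, Finset.card_erase_of_mem (by simp [hq']), ← Set.ncard_eq_toFinset_card', hcblk]
    have h3 : ∀ b ∈ Finset.univ.erase a₀,
        ((Finset.univ.filter fun q : G ⧸ H => I q a₀).bipartiteBelow I b).card = l := by
      intro b hb
      rw [← hl a₀ b (Finset.ne_of_mem_erase hb).symm, Set.ncard_eq_toFinset_card']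
      congr 1
      ext q; simp [Finset.bipartiteBelow]
    have h4 : (Finset.univ.filter fun q : G ⧸ H => I q a₀).card = r := by
      rw [← hr a₀, Set.ncard_eq_toFinset_card']; congr 1; ext q; simp
    rw [Finset.sum_congr rfl h1, Finset.sum_congr rfl h3, Finset.sum_const, Finset.sum_const,
      Finset.card_erase_of_mem (Finset.mem_univ a₀), Finset.card_univ, smul_eq_mul, smul_eq_mul, h4,
      ← Nat.card_eq_fintype_card] at h
    exact h
  have hl1 : 1 ≤ l := by
    rcases Nat.eq_zero_or_pos l with h | h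
    · rw [h, mul_zero] at hcount
      rcases Nat.mul_eq_zero.1 hcount with h' | h' <;> omega
    · exact h
  have hlk : l < r := by
    by_contra hc
    push Not at hc
    have h4 : (Nat.card Ω - 1) * r ≤ r * (r - 1) := hcount ▸ Nat.mul_le_mul_left _ hc
    rw [mul_comm r (r - 1)] at h4
    have := Nat.le_of_mul_le_mul_right h4 (by omega)
    omega
  -- the incidence matrix
  let e : Ω ≃ G ⧸ H := Fintype.equivOfCardEq (by
    rw [← Nat.card_eq_fintype_card, ← Nat.card_eq_fintype_card, hcardX])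
  let M : Matrix Ω Ω ℚ := Matrix.of fun a b => if I (e b) a then 1 else 0
  have cnt : ∀ p : G ⧸ H → Prop, ((∑ b : Ω, if p (e b) then (1 : ℚ) else 0)) = ({q | p q}.ncard : ℚ) :=
    fun p => by
      rw [Equiv.sum_comp e (fun q => if p q then (1 : ℚ) else 0), Finset.sum_boole,
        Set.ncard_eq_toFinset_card']
      congr 2; ext q; simp
  have cnt' : ∀ p : Ω → Prop, ((∑ a : Ω, if p a then (1 : ℚ) else 0)) = ({a | p a}.ncard : ℚ) :=
    fun p => by
      rw [Finset.sum_boole, Set.ncard_eq_toFinset_card']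
      congr 2; ext a; simp
  have hMM : M * M.transpose = ((r : ℚ) - l) • (1 : Matrix Ω Ω ℚ) + (l : ℚ) • Matrix.of (fun _ _ => 1) := by
    ext a b
    have e1 : (M * M.transpose) a b = ({q | I q a ∧ I q b}.ncard : ℚ) := by
      rw [Matrix.mul_apply, ← cnt (fun q => I q a ∧ I q b)]
      refine Finset.sum_congr rfl fun c _ => ?_
      simp only [M, Matrix.transpose_apply, Matrix.of_apply]
      split_ifs <;> simp_all
    rw [e1]
    simp only [Matrix.add_apply, Matrix.smul_apply, Matrix.of_apply, Matrix.one_apply, smul_eq_mul]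
    by_cases hab : a = b
    · subst hab
      simp only [and_self, hr, if_true, mul_one]; ring
    · rw [hl a b hab, if_neg hab]; ring
  have hMJ : M * Matrix.of (fun _ _ => (1 : ℚ)) = (r : ℚ) • Matrix.of (fun _ _ => (1 : ℚ)) := by
    ext a b
    simp only [Matrix.mul_apply, M, Matrix.of_apply, mul_one, Matrix.smul_apply, smul_eq_mul]
    rw [cnt (fun q => I q a), hr]
  have hJM : Matrix.of (fun _ _ => (1 : ℚ)) * M = (r : ℚ) • Matrix.of (fun _ _ => (1 : ℚ)) := by
    ext a b
    simp only [Matrix.mul_apply, M, Matrix.of_apply, one_mul, Matrix.smul_apply, smul_eq_mul, mul_one]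
    rw [cnt' (fun c => I (e b) c)]
    exact_mod_cast hcblk (e b)
  have hrlq : (r : ℚ) - l ≠ 0 := sub_ne_zero.2 (by exact_mod_cast (Nat.ne_of_lt hlk).symm)
  have hpos : (r : ℚ) - l + l * (Fintype.card Ω : ℚ) ≠ 0 := by
    have h1 : (0 : ℚ) < (r : ℚ) - l := sub_pos.2 (by exact_mod_cast hlk)
    have h2 : (0 : ℚ) ≤ (l : ℚ) * (Fintype.card Ω : ℚ) := by positivity
    linarith
  obtain ⟨hMtM, hMu⟩ := dual_products M r l hrlq hpos hMM hMJ hJM
  have hpairblk : ∀ q q', q ≠ q' → {a | I q a ∧ I q' a}.ncard = l := by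
    intro q q' hq
    obtain ⟨b, rfl⟩ := e.surjective q
    obtain ⟨c, rfl⟩ := e.surjective q'
    have h := congrFun (congrFun hMtM b) c
    have e1 : (M.transpose * M) b c = ({a | I (e b) a ∧ I (e c) a}.ncard : ℚ) := by
      rw [Matrix.mul_apply, ← cnt' (fun a => I (e b) a ∧ I (e c) a)]
      refine Finset.sum_congr rfl fun a _ => ?_
      simp only [M, Matrix.transpose_apply, Matrix.of_apply]
      split_ifs <;> simp_all
    rw [e1] at h
    have hbc : b ≠ c := fun h => hq (by rw [h])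
    simp [Matrix.one_apply, hbc] at h
    exact_mod_cast h
  have hfixeq : ∀ g : G, {q : G ⧸ H | g • q = q}.ncard = {a : Ω | g • a = a}.ncard := by
    intro g
    have h := trace_perm M hMu (MulAction.toPerm g) ((MulAction.toPerm g : Equiv.Perm (G ⧸ H)) |> e.symm.permCongr)
      fun a b => by
        simp only [M, Matrix.of_apply, Equiv.permCongr_apply, Equiv.symm_symm, MulAction.toPerm_apply,
          Equiv.apply_symm_apply, hsmul]
    have e1 : {a : Ω | g • a = a}.ncard = (Finset.univ.filter fun a : Ω => g • a = a).card := by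
      rw [Set.ncard_eq_toFinset_card']; congr 1; ext a; simp
    have e2 : {q : G ⧸ H | g • q = q}.ncard
        = (Finset.univ.filter fun b : Ω => e.symm (g • e b) = b).card := by
      rw [show {q : G ⧸ H | g • q = q} = e '' {b : Ω | e.symm (g • e b) = b} from ?_,
        Set.ncard_image_of_injective _ e.injective, Set.ncard_eq_toFinset_card']
      · congr 1; ext b; simp
      · ext q
        refine ⟨fun hq => ⟨e.symm q, by simp [show g • q = q from hq], e.apply_symm_apply q⟩, ?_⟩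
        rintro ⟨b, hb, rfl⟩
        exact e.symm.injective (by rw [show e.symm (g • e b) = b from hb, e.symm_apply_apply])
    rw [e1, e2]
    exact h.symm
  have hfb : ∀ g : G, Nat.card (fixedBy (G ⧸ H) g) = Nat.card (fixedBy Ω g) := fun g => by
    rw [Nat.card_coe_set_eq, Nat.card_coe_set_eq]; exact hfixeq g
  -- doubly transitive on the cosets
  obtain ⟨q₁, hq₁⟩ : ∃ q₁ : G ⧸ H, q₁ ≠ q₀ := by
    have : Nontrivial (G ⧸ H) := Finite.one_lt_card_iff_nontrivial.1 (by omega)
    exact exists_ne q₀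
  have hnΩ : ∀ a : Ω, ∃ b, b ≠ a := fun a =>
    (em (a = a₀)).elim (fun h => ⟨a₁, h ▸ ha₁'⟩) (fun h => ⟨a₀, Ne.symm h⟩)
  have horb2 : Nat.card (orbitRel.Quotient G (Ω × Ω)) = 2 := by
    refine card_quot_eq_two (fun p : Ω × Ω => p.1 = p.2) (fun g p => smul_left_cancel_iff g)
      (a₀, a₀) (a₁, a₀) rfl ha₁' ?_ ?_
    · rintro ⟨a, b⟩ (rfl : a = b)
      obtain ⟨b, hb⟩ := hnΩ a
      obtain ⟨g, hg, -⟩ := t2 (Ne.symm ha₁') (Ne.symm hb)
      exact ⟨g, Prod.ext hg hg⟩
    · rintro ⟨a, b⟩ hab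
      obtain ⟨g, hg, hg'⟩ := t2 ha₁' (show a ≠ b from hab)
      exact ⟨g, Prod.ext hg hg'⟩
  have tq : ∀ a b c d : G ⧸ H, a ≠ b → c ≠ d → ∃ g : G, g • a = c ∧ g • b = d := by
    intro a b c d hab hcd
    have h2' : Nat.card (orbitRel.Quotient G ((G ⧸ H) × (G ⧸ H))) = 2 := by
      rw [← horb2]
      exact card_quot_eq fun g => by rw [card_fixedBy_prod, card_fixedBy_prod, hfb]
    obtain ⟨g, hg⟩ := exists_smul_of_two h2' (fun p => p.1 = p.2) (fun g p => smul_left_cancel_iff g)
      (x₀ := (q₀, q₀)) (x := (a, b)) (y := (c, d)) rfl hab hcd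
    exact ⟨g, congrArg Prod.fst hg, congrArg Prod.snd hg⟩
  have tq1 : ∀ a : G ⧸ H, ∃ g : G, g • q₀ = a := fun a => MulAction.exists_smul_eq G q₀ a
  have hH2 : Nat.card (orbitRel.Quotient H Ω) = 2 := by
    rw [← card_quot_eq (K := H) (X := G ⧸ H) (Y := Ω) fun g => hfb g.1]
    refine card_quot_eq_two (fun q : G ⧸ H => q = q₀) (fun g q => ?_) q₀ q₁ rfl hq₁
      (fun x hx => ⟨1, by rw [one_smul]; exact hx.symm⟩) fun x hx => ?_
    · show g.1 • q = q₀ ↔ q = q₀
      rw [smul_eq_iff_eq_inv_smul, (hstab g.1⁻¹).2 (inv_mem g.2)]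
    · obtain ⟨g, hg, hg'⟩ := tq q₀ q₁ q₀ x (Ne.symm hq₁) (Ne.symm hx)
      exact ⟨⟨g, (hstab g).1 hg⟩, hg'⟩
  have D : Design G (G ⧸ H) Ω I r l :=
    { smul_iff := hsmul
      one_le := hl1
      two_le := hk2
      add_two_le := hcardX ▸ hk2'
      card_eq := hcardX.symm
      card_pts := hr
      card_blk := hcblk
      pair_pts := hpairblk
      pair_blk := hl
      faithful := fun g hg => by
        refine FaithfulSMul.eq_of_smul_eq_smul (α := Ω) fun a => ?_
        have h := hfixeq g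
        rw [Set.eq_univ_of_forall (s := {q : G ⧸ H | g • q = q}) hg, Set.ncard_univ, hcardX,
          ← Set.ncard_univ] at h
        have e := Set.eq_of_subset_of_ncard_le (Set.subset_univ {a : Ω | g • a = a}) h.le
        rw [one_smul]
        exact (Set.ext_iff.1 e a).2 trivial
      fix_eq := hfixeq
      trans_pts := tq
      trans_blk := fun A B C E hAB hCE => t2 hAB hCE
      trans_flag := fun q a q' a' h h' => by
        obtain ⟨g, rfl⟩ := tq1 q
        obtain ⟨g', rfl⟩ := tq1 q'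
        have hx : g⁻¹ • a ∈ Δ := by
          rw [← hq₀]; exact (hsmul g q₀ _).1 (by rwa [smul_inv_smul])
        have hy : g'⁻¹ • a' ∈ Δ := by
          rw [← hq₀]; exact (hsmul g' q₀ _).1 (by rwa [smul_inv_smul])
        obtain ⟨u, hu⟩ := hx
        obtain ⟨u', hu'⟩ := hy
        have hu0 : u.1 • a₀ = g⁻¹ • a := hu
        have hu0' : u'.1 • a₀ = g'⁻¹ • a' := hu'
        refine ⟨g' * (u'.1 * u.1⁻¹) * g⁻¹, ?_, ?_⟩
        · rw [mul_smul, inv_smul_smul, mul_smul, (hstab _).2 (mul_mem u'.2 (inv_mem u.2))]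
        · rw [mul_smul, mul_smul, ← hu0, mul_smul, inv_smul_smul, hu0', smul_inv_smul]
      trans_anti := fun q a q' a' h h' => by
        obtain ⟨g, rfl⟩ := tq1 q
        obtain ⟨g', rfl⟩ := tq1 q'
        have hx : g⁻¹ • a ∉ Δ := by
          rw [← hq₀]; exact fun hm => h (by rw [← smul_inv_smul g a]; exact (hsmul g q₀ _).2 hm)
        have hy : g'⁻¹ • a' ∉ Δ := by
          rw [← hq₀]; exact fun hm => h' (by rw [← smul_inv_smul g' a']; exact (hsmul g' q₀ _).2 hm)
        obtain ⟨u, hu⟩ := exists_smul_of_two hH2 (fun x => x ∈ Δ) (fun u x => by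
          show u.1 • x ∈ Δ ↔ x ∈ Δ
          conv_lhs => rw [← hΔ u.1 u.2, Set.smul_mem_smul_set_iff]) (x₀ := a₀)
          (mem_orbit_self a₀) hx hy
        have hu0 : u.1 • g⁻¹ • a = g'⁻¹ • a' := hu
        refine ⟨g' * u.1 * g⁻¹, ?_, ?_⟩
        · rw [mul_smul, inv_smul_smul, mul_smul, (hstab _).2 u.2]
        · rw [mul_smul, mul_smul, hu0, smul_inv_smul] }
  have hc : ∃ (q : G ⧸ H) (g : G), g ∈ Cen G I q ∧ g ≠ 1 :=
    ⟨q₀, h₀.1, mem_Cen.2 fun b hb => h₀fix b (show b ∈ Δ by rw [← hq₀]; exact hb), fun h => h₀1 (Subtype.ext h)⟩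
  obtain ⟨m, F, iF, iFt, hm, hcard, hN⟩ := (D.full hc).exists_psl
  exact ⟨m, F, iF, iFt, hm, hcard, hN⟩

end CfsgLib.ItoDesign63
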