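import Cfsg.Agent.Lib.ItoDesign63.Proj
import Cfsg.Agent.S3732

/-!
# The plane case
-/

set_option autoImplicit false
set_option linter.unusedSectionVars false

open MulAction Projectivization

namespace CfsgLib.ItoDesign63

namespace Full

variable {G α β : Type*} [Group G] [MulAction G α] [MulAction G β]
variable {I : α → β → Prop} {k l : ℕ} [Finite α] [Finite β] (D : Full G I k l)
include D

theorem l_eq_one_of_two {B : β} (Fr : D.Frame B 2) : k = Nat.card (D.Tc (Fr.b ⟨0, by omega⟩) B) + 1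
    ∧ l = 1 := by
  obtain ⟨-, h2, h3⟩ := D.params (Fr.on ⟨0, by omega⟩)
  have h1 := D.card_T (Fr.on ⟨0, by omega⟩)
  rw [Fr.card_eq] at h1
  obtain ⟨q, hq⟩ : ∃ q, Nat.card (D.Tc (Fr.b ⟨0, by omega⟩) B) = q + 1 :=
    ⟨_, (Nat.sub_add_cancel (by omega : 1 ≤ Nat.card (D.Tc (Fr.b ⟨0, by omega⟩) B))).symm⟩
  rw [hq] at h1 h2 h3 ⊢
  rw [Nat.add_sub_cancel] at h1
  have hk : k = q + 2 := by
    apply Nat.eq_of_mul_eq_mul_right (show 0 < q by omega)
    linarith
  refine ⟨hk, ?_⟩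
  rw [hk, show q + 2 - 1 = (q + 1) * 1 by omega] at h3
  exact (Nat.eq_of_mul_eq_mul_left (by omega) h3).symm

theorem exists_projCoord_plane (hl : l = 1) (hk : 3 ≤ k) :
    ∃ (F : Type) (_ : Field F) (_ : Fintype F), Nonempty (ProjCoord I 2 F) := by
  classical
  subst hl
  have := Fintype.ofFinite α
  have := Fintype.ofFinite β
  let _ : Membership α β := ⟨fun E a => I a E⟩
  have hmem : ∀ (a : α) (E : β), a ∈ E ↔ I a E := fun a E => Iff.rfl
  have hone : ∀ a b, a ≠ b → ∃ E, I a E ∧ I b E ∧ ∀ F, I a F → I b F → F = E := fun a b h => by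
    obtain ⟨E, hE⟩ := Set.ncard_eq_one.1 (D.pair_pts a b h)
    have hE' : E ∈ {E | I a E ∧ I b E} := hE ▸ rfl
    exact ⟨E, hE'.1, hE'.2, fun F h1 h2 => (Set.ext_iff.1 hE F).1 ⟨h1, h2⟩⟩
  have hone' : ∀ E F, E ≠ F → ∃ a, I a E ∧ I a F ∧ ∀ b, I b E → I b F → b = a := fun E F h => by
    obtain ⟨a, ha⟩ := Set.ncard_eq_one.1 (D.pair_blk E F h)
    have ha' : a ∈ {a | I a E ∧ I a F} := ha ▸ rfl
    exact ⟨a, ha'.1, ha'.2, fun b h1 h2 => (Set.ext_iff.1 ha b).1 ⟨h1, h2⟩⟩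
  choose mkL mkL1 mkL2 mkL3 using hone
  choose mkP mkP1 mkP2 mkP3 using hone'
  have hnl : ∀ a : α, ∃ E, ¬ I a E := fun a => D.toDesign.dual.exists_not_pt a
  -- a quadrangle
  have hcfg : ∃ (p₁ p₂ p₃ : α) (l₁ l₂ l₃ : β), p₁ ∉ l₂ ∧ p₁ ∉ l₃ ∧ p₂ ∉ l₁ ∧ p₂ ∈ l₂ ∧
      p₂ ∈ l₃ ∧ p₃ ∉ l₁ ∧ p₃ ∈ l₂ ∧ p₃ ∉ l₃ := by
    simp only [hmem]
    obtain ⟨l₂⟩ : Nonempty β :=
      (Nat.card_pos_iff.1 (by have := D.card_eq; have := D.add_two_le; omega)).1
    obtain ⟨p₁, hp₁⟩ := D.toDesign.exists_not_pt l₂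
    obtain ⟨p₂, hp₂⟩ := D.exists_pt l₂
    obtain ⟨p₃, hp₃, hp₃'⟩ : ∃ c, I c l₂ ∧ c ≠ p₂ := D.exists_other
    have h12 : p₁ ≠ p₂ := fun e => hp₁ (e ▸ hp₂)
    obtain ⟨l₃, hl₃, hl₃1, hl₃2⟩ : ∃ E, I p₂ E ∧ ¬ I p₁ E ∧ ¬ I p₃ E := by
      by_contra hc
      push Not at hc
      have hsub : {E | I p₂ E} ⊆ {mkL p₁ p₂ h12, l₂} := fun E hE => by
        by_cases h1 : I p₁ E
        · exact .inl (mkL3 p₁ p₂ h12 E h1 hE)
        · refine .inr ?_
          rw [Set.mem_singleton_iff, mkL3 p₂ p₃ (Ne.symm hp₃') E hE (hc E hE h1),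
            mkL3 p₂ p₃ (Ne.symm hp₃') l₂ hp₂ hp₃]
      have := Set.ncard_le_ncard hsub
      rw [D.card_blk] at this
      have h2 : ({mkL p₁ p₂ h12, l₂} : Set β).ncard ≤ 2 := by
        refine (Set.ncard_insert_le _ _).trans ?_
        rw [Set.ncard_singleton]
      omega
    obtain ⟨l₁, hl₁2, hl₁3⟩ : ∃ E, ¬ I p₂ E ∧ ¬ I p₃ E := by
      by_contra hc
      push Not at hc
      have hsub : (Set.univ : Set β) ⊆ {E | I p₂ E} ∪ {E | I p₃ E} := fun E _ =>
        (em (I p₂ E)).elim .inl (fun h => .inr (hc E h))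
      have := (Set.ncard_le_ncard hsub).trans (Set.ncard_union_le _ _)
      rw [Set.ncard_univ, D.card_blk, D.card_blk, D.card_eq] at this
      have hcount := D.toDesign.count_flags
      rw [mul_one] at hcount
      obtain ⟨j, rfl⟩ := Nat.exists_eq_add_of_le hk
      rw [show 3 + j - 1 = j + 2 by omega] at hcount
      have h4 : 2 * (3 + j) ≤ (3 + j) * (j + 2) := by nlinarith
      omega
    exact ⟨p₁, p₂, p₃, l₁, l₂, l₃, hp₁, hl₃1, hl₁2, hp₂, hl₃, hl₁3, hp₃, hl₃2⟩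
  let _ : Configuration.ProjectivePlane α β :=
    { exists_point := fun E => D.toDesign.exists_not_pt E
      exists_line := hnl
      eq_or_eq := fun {p₁ p₂ l₁ l₂} h11 h21 h12 h22 => by
        by_contra hc
        push Not at hc
        exact hc.2 ((mkL3 p₁ p₂ hc.1 l₁ h11 h21).trans (mkL3 p₁ p₂ hc.1 l₂ h12 h22).symm)
      mkPoint := fun {E F} h => mkP E F h
      mkPoint_ax := fun {E F} h => ⟨mkP1 E F h, mkP2 E F h⟩
      mkLine := fun {a b} h => mkL a b h
      mkLine_ax := fun {a b} h => ⟨mkL1 a b h, mkL2 a b h⟩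
      exists_config := hcfg }
  obtain ⟨F, iF, iFt, φ, hline, -⟩ := Cfsg.Agent.S3732.result (P := α) (L := β)
    (fun p₁ p₂ q₁ q₂ hp hq => by
      obtain ⟨g, h1, h2⟩ := D.trans_pts p₁ p₂ q₁ q₂ hp hq
      exact ⟨MulAction.toPerm g, MulAction.toPerm g, fun p E => D.smul_iff g p E, h1, h2⟩)
  have hblk : ∀ E, ∃ a : Fin 3 → F, a ≠ 0 ∧ ∀ p, I p E ↔ dotProduct (φ p).rep a = 0 := by
    intro E
    obtain ⟨W, hW, hWp⟩ := hline E
    have hlt : W < ⊤ := lt_top_iff_ne_top.2 fun h => by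
      rw [h, finrank_top, Module.finrank_fin_fun] at hW
      omega
    obtain ⟨f, hf0, hfW⟩ := Submodule.exists_le_ker_of_lt_top W hlt
    have hker : W = LinearMap.ker f := by
      refine Submodule.eq_of_le_of_finrank_le hfW ?_
      have := LinearMap.finrank_range_add_finrank_ker f
      rw [LinearMap.range_eq_top.2 (LinearMap.surjective_of_ne_zero hf0), finrank_top,
        Module.finrank_self, Module.finrank_fin_fun] at this
      omega
    refine ⟨fun i => f (Pi.single i 1), fun h => hf0 ?_, fun p => ?_⟩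
    · refine LinearMap.pi_ext fun i x => ?_
      rw [show (Pi.single i x : Fin 3 → F) = x • Pi.single i 1 by
        rw [← Pi.single_smul, smul_eq_mul, mul_one], map_smul,
        show f (Pi.single i 1) = 0 from congrFun h i, smul_zero]
      rfl
    have hd : dotProduct (φ p).rep (fun i => f (Pi.single i 1)) = f (φ p).rep := by
      rw [dotProduct, LinearMap.pi_apply_eq_sum_univ f (φ p).rep]
      refine Finset.sum_congr rfl fun i _ => ?_
      rw [smul_eq_mul]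
      congr 2
      funext j
      simp [Pi.single_apply, eq_comm]
    rw [hd, ← LinearMap.mem_ker, ← hker, ← hmem, hWp, submodule_eq,
      Submodule.span_singleton_le_iff_mem]
  choose a ha hai using hblk
  let Q : β → Projectivization F (Fin 3 → F) := fun E => Projectivization.mk F (a E) (ha E)
  have hQ : ∀ p E, I p E ↔ dotProduct (φ p).rep (Q E).rep = 0 := fun p E => by
    rw [hai E p]
    obtain ⟨t, ht⟩ := exists_smul_eq_mk_rep F (a E) (ha E)
    rw [show (Q E).rep = t • a E from ht.symm, dotProduct_smul, Units.smul_def,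
      smul_eq_zero_iff_right t.ne_zero]
  have hQinj : Function.Injective Q := fun E E' h =>
    D.toDesign.eq_of_blk_subset fun p hp => by rw [hQ, ← h, ← hQ]; exact hp
  have : Finite (Projectivization F (Fin 3 → F)) := Finite.of_equiv _ φ
  have hQbij : Function.Bijective Q :=
    hQinj.bijective_of_nat_card_le (by rw [D.card_eq, Nat.card_congr φ])
  exact ⟨F, iF, iFt, ⟨⟨φ, Equiv.ofBijective Q hQbij, hQ⟩⟩⟩

/-- The design is a projective space of dimension at least two. -/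
theorem exists_coord : ∃ (m : ℕ) (F : Type) (_ : Field F) (_ : Fintype F),
    2 ≤ m ∧ Nonempty (ProjCoord I m F) := by
  obtain ⟨B⟩ : Nonempty β :=
    (Nat.card_pos_iff.1 (by have := D.card_eq; have := D.add_two_le; omega)).1
  obtain ⟨m, ⟨Fr⟩⟩ := D.exists_frame B
  rcases eq_or_lt_of_le Fr.two_le with h | h
  · subst h
    obtain ⟨hk, hl⟩ := D.l_eq_one_of_two Fr
    obtain ⟨F, iF, iFt, hP⟩ := D.exists_projCoord_plane hl
      (by have := (D.params (Fr.on ⟨0, by omega⟩)).2.1; omega)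
    exact ⟨2, F, iF, iFt, le_rfl, hP⟩
  · obtain ⟨F, iF, iFt, ⟨LC⟩⟩ := Fr.exists_linCoord (by omega)
    exact ⟨m, F, iF, iFt, Fr.two_le, D.exists_projCoord Fr LC⟩

end Full

end CfsgLib.ItoDesign63
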