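import Cfsg.Agent.Lib.ItoDesign63.Coord
import Mathlib.LinearAlgebra.Projectivization.Cardinality
import Mathlib.LinearAlgebra.Matrix.DotProduct
import Mathlib.LinearAlgebra.Dual.Lemmas
import Mathlib.GroupTheory.Coset.Card

/-!
# The design is a projective space
-/

set_option autoImplicit false
set_option linter.unusedSectionVars false

open MulAction Projectivization

namespace CfsgLib.ItoDesign63

/-- Coordinates: points and blocks are the points and hyperplanes of a projective space. -/
structure ProjCoord {α β : Type*} (I : α → β → Prop) (m : ℕ) (F : Type) [Field F] where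
  φ : α ≃ Projectivization F (Fin (m + 1) → F)
  φ' : β ≃ Projectivization F (Fin (m + 1) → F)
  inc : ∀ p E, I p E ↔ dotProduct (φ p).rep (φ' E).rep = 0

namespace Full

variable {G α β : Type*} [Group G] [MulAction G α] [MulAction G β]
variable {I : α → β → Prop} {k l : ℕ} [Finite α] [Finite β] (D : Full G I k l)
include D

theorem exists_projCoord {B : β} {m : ℕ} (Fr : D.Frame B m) {F : Type} [Field F] [Fintype F]
    (LC : D.LinCoord B m F) : Nonempty (ProjCoord I m F) := by
  classical
  have := D.toDesign.finite_group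
  have hm := Fr.two_le
  let ψ : (Fin m → F) → G := fun z => (LC.ψ z).toMul.1
  have ψT : ∀ z, ψ z ∈ D.T B := fun z => (LC.ψ z).toMul.2
  have ψadd : ∀ z w, ψ (z + w) = ψ z * ψ w := fun z w => by simp only [ψ, map_add]; rfl
  have ψ0 : ψ 0 = 1 := by simp only [ψ, map_zero]; rfl
  have ψinj : ∀ z w, ψ z = ψ w → z = w := fun z w h =>
    LC.ψ.injective (Additive.toMul.injective (Subtype.ext h))
  have ψsurj : ∀ g ∈ D.T B, ∃ z, ψ z = g := fun g hg =>
    ⟨LC.ψ.symm (Additive.ofMul ⟨g, hg⟩), by simp only [ψ, AddEquiv.apply_symm_apply]; rfl⟩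
  have ψ1 : ∀ z, z ≠ 0 → ψ z ≠ 1 := fun z hz h => hz (ψinj z 0 (h.trans ψ0.symm))
  obtain ⟨x₀, hx₀⟩ := D.toDesign.exists_not_pt B
  -- the centre of a translation
  have hcen : ∀ z, ∃ b, (z = 0 ∨ (I b B ∧ ψ z ∈ Cen G I b)) := fun z => by
    by_cases hz : z = 0
    · exact ⟨x₀, .inl hz⟩
    · obtain ⟨b, hb, hb', -⟩ := D.T_centre (ψT z) (ψ1 z hz)
      exact ⟨b, .inr ⟨hb, hb'⟩⟩
  choose cen hcen using hcen
  have cen_spec : ∀ z, z ≠ 0 → I (cen z) B ∧ ψ z ∈ Cen G I (cen z) := fun z hz =>
    (hcen z).resolve_left hz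
  have cen_unique : ∀ z b, z ≠ 0 → ψ z ∈ Cen G I b → cen z = b := fun z b hz hb => by
    by_contra hne
    exact ψ1 z hz (D.toDesign.eq_one_of_two_cen hne (cen_spec z hz).2 hb)
  have cen_smul : ∀ z (c : F), z ≠ 0 → c ≠ 0 → cen (c • z) = cen z := fun z c hz hc =>
    cen_unique _ _ (smul_ne_zero hc hz) (LC.centre _ (cen_spec z hz).1 z c (cen_spec z hz).2)
  have hmove : ∀ z, ¬ I (ψ z • x₀) B := fun z h => hx₀ (by
    rw [← D.smul_iff (ψ z), D.smul_blk (ψT z)]; exact h)
  have hfree : ∀ z w, ψ z • x₀ = ψ w • x₀ → z = w := fun z w h => by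
    apply ψinj
    refine inv_mul_eq_one.1 (D.semireg (mul_mem (inv_mem (ψT z)) (ψT w)) hx₀ ?_)
    rw [mul_smul, ← h, inv_smul_smul]
  -- the point of a vector
  let pt : (Fin (m + 1) → F) → α := fun v =>
    if v (Fin.last m) = 0 then cen (Fin.init v)
    else ψ ((v (Fin.last m))⁻¹ • Fin.init v) • x₀
  have init_ne : ∀ v : Fin (m + 1) → F, v ≠ 0 → v (Fin.last m) = 0 → Fin.init v ≠ 0 := by
    intro v hv h0 hc
    apply hv
    rw [← Fin.snoc_init_self v, hc, h0]
    funext i
    induction i using Fin.lastCases with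
    | last => simp
    | cast i => simp
  have hwd : ∀ (a b : {v : Fin (m + 1) → F // v ≠ 0}) (t : F),
      (a : Fin (m + 1) → F) = t • (b : Fin (m + 1) → F) → pt a = pt b := by
    rintro ⟨a, ha⟩ ⟨b, hb⟩ t (rfl : a = t • b)
    have ht : t ≠ 0 := fun e => ha (by rw [e, zero_smul])
    have hi : Fin.init (t • b) = t • Fin.init b := rfl
    by_cases h0 : b (Fin.last m) = 0
    · simp only [pt, Pi.smul_apply, h0, smul_zero, if_true, hi]
      exact cen_smul _ t (init_ne b hb h0) ht
    · simp only [pt, Pi.smul_apply, smul_eq_mul, mul_eq_zero, ht, h0, or_self, if_false, hi]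
      rw [smul_smul]
      congr 3
      field_simp
  let P : Projectivization F (Fin (m + 1) → F) → α :=
    Projectivization.lift (fun a => pt a.1) hwd
  have P_rep : ∀ p, P p = pt p.rep := fun p => by
    conv_lhs => rw [← mk_rep p]
    rfl
  have P_mk : ∀ v hv, P (Projectivization.mk F v hv) = pt v := fun v hv => rfl
  have hsurj : Function.Surjective P := by
    intro x
    by_cases hx : I x B
    · obtain ⟨g, hg, hg1⟩ := D.exists_Tc hx
      obtain ⟨z, rfl⟩ := ψsurj g (Subgroup.mem_inf.1 hg).1
      have hz : z ≠ 0 := fun e => hg1 (by rw [e, ψ0])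
      have hv : Fin.snoc z (0 : F) ≠ (0 : Fin (m + 1) → F) := fun e => hz (by
        funext i; simpa using congrFun e i.castSucc)
      refine ⟨Projectivization.mk F _ hv, ?_⟩
      rw [P_mk]
      simp only [pt, Fin.snoc_last, if_true, Fin.init_snoc]
      exact cen_unique z x hz (Subgroup.mem_inf.1 hg).2
    · obtain ⟨g, hg, rfl⟩ := D.exists_translation hx₀ hx
      obtain ⟨z, rfl⟩ := ψsurj g hg
      have hv : Fin.snoc z (1 : F) ≠ (0 : Fin (m + 1) → F) := fun e => by
        simpa using congrFun e (Fin.last m)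
      refine ⟨Projectivization.mk F _ hv, ?_⟩
      rw [P_mk]
      simp only [pt, Fin.snoc_last, one_ne_zero, if_false, Fin.init_snoc, inv_one, one_smul]
  have hτ : Nat.card (D.Tc (Fr.b ⟨0, by omega⟩) B) = Fintype.card F := by
    have h1 : Nat.card (Fin m → F) = Nat.card (D.T B) := Nat.card_congr LC.ψ.toEquiv
    rw [Fr.card_eq, Nat.card_fun, Nat.card_eq_fintype_card (α := F),
      Nat.card_eq_fintype_card (α := Fin m), Fintype.card_fin] at h1
    exact (Nat.pow_left_injective (by omega) h1).symm
  -- count the points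
  obtain ⟨hvk, hτ2, hk1⟩ := D.params (Fr.on ⟨0, by omega⟩)
  have hcardT : Nat.card α - k = Fintype.card F ^ m := by rw [← hvk, Fr.card_eq, hτ]
  have hkτ : k * (Fintype.card F - 1) + 1 = Fintype.card F ^ m := by
    rw [← hτ, ← D.card_T (Fr.on ⟨0, by omega⟩), Fr.card_eq]
  have hq : 1 < Fintype.card F := Fintype.one_lt_card
  have hv : Nat.card α = Nat.card (Projectivization F (Fin (m + 1) → F)) := by
    have h := Projectivization.card F (Fin (m + 1) → F)
    rw [Nat.card_fun, Nat.card_eq_fintype_card (α := F), Nat.card_eq_fintype_card (α := Fin (m + 1)),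
      Fintype.card_fin, pow_succ] at h
    obtain ⟨q, hq'⟩ : ∃ q, Fintype.card F = q + 1 := ⟨Fintype.card F - 1, by omega⟩
    rw [hq'] at h hcardT hkτ
    rw [Nat.add_sub_cancel] at h hkτ
    have hv' : Nat.card α = k + (q + 1) ^ m := by have := D.add_two_le; omega
    apply Nat.eq_of_mul_eq_mul_right (show 0 < q by omega)
    rw [← h, hv', add_mul, mul_add, mul_one]
    omega
  have hbij : Function.Bijective P := hsurj.bijective_of_nat_card_le hv.ge
  let φ := (Equiv.ofBijective P hbij).symm
  have hφ : ∀ p, pt (φ p).rep = p := fun p => by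
    rw [← P_rep]; exact (Equiv.ofBijective P hbij).apply_symm_apply p
  -- every block has an equation
  have hblk : ∀ E, ∃ a : Fin (m + 1) → F, a ≠ 0 ∧
      ∀ v : Fin (m + 1) → F, v ≠ 0 → (I (pt v) E ↔ dotProduct v a = 0) := by
    intro E
    by_cases hE : E = B
    · subst hE
      refine ⟨Pi.single (Fin.last m) 1, by simp, fun v hv => ?_⟩
      rw [dotProduct_single_one]
      by_cases h0 : v (Fin.last m) = 0
      · simp only [pt, h0, if_true, iff_true]
        exact (cen_spec _ (init_ne v hv h0)).1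
      · simp only [pt, h0, if_false, iff_false]
        exact hmove _
    obtain ⟨xE, hxE, hxEB⟩ : ∃ x, I x E ∧ ¬ I x B := by
      by_contra hc
      push Not at hc
      exact hE (D.toDesign.eq_of_blk_subset hc)
    obtain ⟨g, hg, rfl⟩ := D.exists_translation hx₀ hxEB
    obtain ⟨zE, rfl⟩ := ψsurj g hg
    let U : Submodule F (Fin m → F) :=
      { carrier := {z | ψ z ∈ D.TC B E}
        zero_mem' := by show ψ 0 ∈ D.TC B E; rw [ψ0]; exact one_mem _
        add_mem' := fun {z w} hz hw => by
          show ψ (z + w) ∈ D.TC B E; rw [ψadd]; exact mul_mem hz hw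
        smul_mem' := fun c z hz => by
          by_cases hz0 : z = 0
          · simp only [hz0, smul_zero]; show ψ 0 ∈ D.TC B E; rw [ψ0]; exact one_mem _
          show ψ (c • z) ∈ D.TC B E
          refine D.Tc_le_TC (b := cen z) ?_ (Subgroup.mem_inf.2 ⟨ψT _,
            LC.centre _ (cen_spec z hz0).1 z c (cen_spec z hz0).2⟩)
          exact D.mem_of_Tc_le_TC (cen_spec z hz0).1
            (Subgroup.mem_inf.2 ⟨ψT _, (cen_spec z hz0).2⟩) (ψ1 z hz0) hz }
    have hcardU : Nat.card U = Nat.card (D.TC B E) :=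
      Nat.card_congr (Equiv.ofBijective (fun z : U => (⟨ψ z.1, z.2⟩ : D.TC B E))
        ⟨fun z w h => Subtype.ext (ψinj z.1 w.1 (show ((⟨ψ z.1, z.2⟩ : D.TC B E) : G) = (⟨ψ w.1, w.2⟩ : D.TC B E) from congrArg Subtype.val h)), fun g => by
          obtain ⟨z, hz⟩ := ψsurj g.1 g.2.1
          exact ⟨⟨z, show ψ z ∈ D.TC B E by rw [hz]; exact g.2⟩, Subtype.ext hz⟩⟩)
    have hTU : Fintype.card F ^ m = Nat.card U * Fintype.card F := by
      have := D.card_T_eq (Ne.symm hE) (Fr.on ⟨0, by omega⟩)
      rw [Fr.card_eq, hτ] at this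
      rw [this, hcardU]
    have hne : U < ⊤ := lt_top_iff_ne_top.2 fun h => by
      rw [h, Nat.card_congr Submodule.topEquiv.toEquiv, Nat.card_fun, Nat.card_eq_fintype_card,
        Nat.card_eq_fintype_card, Fintype.card_fin] at hTU
      have := Nat.pos_of_ne_zero (pow_ne_zero m (show Fintype.card F ≠ 0 by omega))
      nlinarith
    obtain ⟨f, hf0, hfU⟩ := Submodule.exists_le_ker_of_lt_top U hne
    have hker : U = LinearMap.ker f := by
      refine SetLike.coe_injective (Set.eq_of_subset_of_ncard_le hfU ?_ (Set.toFinite _))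
      rw [← Nat.card_coe_set_eq, ← Nat.card_coe_set_eq]
      show Nat.card (LinearMap.ker f) ≤ Nat.card U
      have hs : Function.Surjective f := LinearMap.surjective_of_ne_zero hf0
      have h1 := AddSubgroup.card_eq_card_quotient_mul_card_addSubgroup f.toAddMonoidHom.ker
      rw [Nat.card_congr (QuotientAddGroup.quotientKerEquivOfSurjective f.toAddMonoidHom hs).toEquiv,
        Nat.card_fun, Nat.card_eq_fintype_card (α := Fin m), Fintype.card_fin,
        Nat.card_eq_fintype_card (α := F), hTU, mul_comm] at h1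
      have h2 : Nat.card U = Nat.card f.toAddMonoidHom.ker :=
        Nat.eq_of_mul_eq_mul_left (by omega) h1
      rw [h2]; rfl
    refine ⟨Fin.snoc (fun i => f (Pi.single i 1)) (- f zE), ?_, fun v hv => ?_⟩
    · intro h
      apply hf0
      refine LinearMap.pi_ext fun i x => ?_
      have hi : f (Pi.single i (1 : F)) = 0 := by simpa using congrFun h i.castSucc
      rw [show (Pi.single i x : Fin m → F) = x • Pi.single i 1 by
        rw [← Pi.single_smul, smul_eq_mul, mul_one], map_smul, hi, smul_zero]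
      rfl
    have hdot : dotProduct v (Fin.snoc (fun i => f (Pi.single i 1)) (- f zE))
        = f (Fin.init v) - v (Fin.last m) * f zE := by
      rw [dotProduct, Fin.sum_univ_castSucc, LinearMap.pi_apply_eq_sum_univ f (Fin.init v)]
      simp only [Fin.snoc_castSucc, Fin.snoc_last, smul_eq_mul, mul_neg, sub_eq_add_neg]
      congr 1
      refine Finset.sum_congr rfl fun i _ => ?_
      congr 2
      funext j
      simp [Pi.single_apply, eq_comm]
    rw [hdot]
    by_cases h0 : v (Fin.last m) = 0
    · simp only [pt, h0, if_true, zero_mul, sub_zero]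
      rw [← LinearMap.mem_ker, ← hker]
      have hz := init_ne v hv h0
      obtain ⟨hb, hb'⟩ := cen_spec _ hz
      exact ⟨fun h => D.Tc_le_TC h (Subgroup.mem_inf.2 ⟨ψT _, hb'⟩),
        fun h => D.mem_of_Tc_le_TC hb (Subgroup.mem_inf.2 ⟨ψT _, hb'⟩) (ψ1 _ hz) h⟩
    · simp only [pt, h0, if_false]
      rw [show f (Fin.init v) - v (Fin.last m) * f zE
          = v (Fin.last m) * (f ((v (Fin.last m))⁻¹ • Fin.init v - zE)) by
        rw [map_sub, map_smul, smul_eq_mul]; field_simp, mul_eq_zero, or_iff_right h0,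
        ← LinearMap.mem_ker, ← hker]
      set w := (v (Fin.last m))⁻¹ • Fin.init v
      constructor
      · intro h
        obtain ⟨g, hg, hgx⟩ := D.exists_TC_smul (hmove zE) (hmove w) hxE h
        obtain ⟨u, rfl⟩ := ψsurj g hg.1
        have : w = u + zE := hfree _ _ (by rw [ψadd, mul_smul, hgx])
        rw [this, add_sub_cancel_right]
        exact hg
      · intro h
        have h' : ψ (w - zE) ∈ D.TC B E := h
        rw [show w = (w - zE) + zE by abel, ψadd, mul_smul, ← show ψ (w - zE) • E = E from h'.2,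
          D.smul_iff]
        exact hxE
  choose a ha hai using hblk
  let Q : β → Projectivization F (Fin (m + 1) → F) := fun E => Projectivization.mk F (a E) (ha E)
  have hQ : ∀ p E, I p E ↔ dotProduct (φ p).rep (Q E).rep = 0 := fun p E => by
    conv_lhs => rw [← hφ p]
    rw [hai E _ (rep_nonzero _)]
    obtain ⟨t, ht⟩ := exists_smul_eq_mk_rep F (a E) (ha E)
    rw [show (Q E).rep = t • a E from ht.symm, dotProduct_smul, Units.smul_def,
      smul_eq_zero_iff_right t.ne_zero]
  have hQinj : Function.Injective Q := fun E E' h =>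
    D.toDesign.eq_of_blk_subset fun p hp => by
      rw [hQ, ← h, ← hQ]; exact hp
  have hQbij : Function.Bijective Q := by
    have : Finite (Projectivization F (Fin (m + 1) → F)) := Finite.of_equiv _ φ
    exact hQinj.bijective_of_nat_card_le (by rw [D.card_eq, hv])
  exact ⟨⟨φ, Equiv.ofBijective Q hQbij, hQ⟩⟩

end Full

end CfsgLib.ItoDesign63
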