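import Cfsg.Agent.Lib.ItoDesign63.Plane
import Cfsg.Agent.Classical.SLGen

/-!
# The automorphism group contains the projective special linear group
-/

set_option autoImplicit false
set_option linter.unusedSectionVars false

open MulAction Projectivization Matrix

namespace CfsgLib.ItoDesign63

namespace Full

variable {G α β : Type*} [Group G] [MulAction G α] [MulAction G β]
variable {I : α → β → Prop} {k l : ℕ} [Finite α] [Finite β] (D : Full G I k l)
include D

open Design (left_mem_ln right_mem_ln)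

/-- A line-preserving permutation with centre and axis that agrees with an elation at a point
agrees with it off the line through that point. -/
theorem agree_step {b : α} {B : β} (hb : I b B) {σ : Equiv.Perm α}
    (hln : ∀ x y c, c ∈ ln I x y → σ c ∈ ln I (σ x) (σ y)) (haxis : ∀ x, I x B → σ x = x)
    (hcen : ∀ y, σ y ∈ ln I b y) {g : G} (hg : g ∈ D.Tc b B) {x : α} (hx : ¬ I x B)
    (hgx : g • x = σ x) {y : α} (hy : ¬ I y B) (hyl : y ∉ ln I b x) : g • y = σ y := by
  have hxy : x ≠ y := fun e => hyl (e ▸ right_mem_ln b x)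
  obtain ⟨c, hc, hcB⟩ := D.ln_meets hxy B
  have hcx : c ≠ x := fun e => hx (e ▸ hcB)
  have hl : ln I c x = ln I x y := D.toDesign.ln_eq hxy hcx hc (left_mem_ln x y)
  have hycx : y ∈ ln I c x := hl ▸ right_mem_ln x y
  have hcb : c ≠ b := fun e => hyl (e ▸ hycx)
  have h1 : σ y ∈ ln I c (σ x) := haxis c hcB ▸ hln c x y hycx
  have h2 : g • y ∈ ln I c (σ x) := by
    have := (D.toDesign.smul_mem_ln g).2 hycx
    rwa [D.smul_of_mem_T (Subgroup.mem_inf.1 hg).1 hcB, hgx] at this
  by_contra hne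
  have hgxc : c ≠ σ x := fun e => hcx (σ.injective ((haxis c hcB).trans e))
  have hby : b ≠ y := fun e => hy (e ▸ hb)
  have := D.toDesign.ln_eq_ln hgxc hby hne h2 h1
    (D.toDesign.smul_mem_ln_cen (Subgroup.mem_inf.1 hg).2) (hcen y)
  have hcl : c ∈ ln I b y := this ▸ left_mem_ln c (σ x)
  have hyl' : y ∈ ln I b c := by
    rw [D.toDesign.ln_eq hby (Ne.symm hcb) (left_mem_ln b y) hcl]; exact right_mem_ln b y
  exact hy (hyl' B hb hcB)

/-- Line-preserving permutations with centre and axis are elations of the group. -/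
theorem exists_of_perm {b : α} {B : β} (hb : I b B) {σ : Equiv.Perm α}
    (hln : ∀ x y c, c ∈ ln I x y → σ c ∈ ln I (σ x) (σ y)) (haxis : ∀ x, I x B → σ x = x)
    (hcen : ∀ y, σ y ∈ ln I b y) : ∃ g ∈ D.Tc b B, MulAction.toPerm g = σ := by
  obtain ⟨x₀, hx₀⟩ := D.toDesign.exists_not_pt B
  have hσb : σ x₀ ≠ b := fun e => hx₀ (σ.injective (e.trans (haxis b hb).symm) ▸ hb)
  obtain ⟨g, hg, hgx⟩ := D.exists_Tc_smul hb hx₀ (hcen x₀) hσb
  refine ⟨g, hg, Equiv.ext fun y => ?_⟩
  show g • y = σ y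
  by_cases hy : I y B
  · rw [haxis y hy, D.smul_of_mem_T (Subgroup.mem_inf.1 hg).1 hy]
  by_cases hyl : y ∈ ln I b x₀
  swap
  · exact D.agree_step hb hln haxis hcen hg hx₀ hgx hy hyl
  -- pass through a point off the line
  have hbx : b ≠ x₀ := fun e => hx₀ (e ▸ hb)
  obtain ⟨E, hbE, hxE⟩ := D.toDesign.exists_blk b x₀
  obtain ⟨z, hzB, hzE⟩ : ∃ z, ¬ I z B ∧ ¬ I z E := by
    by_contra hc
    push Not at hc
    have hsub : {z | ¬ I z B} ⊆ {z | I z E} \ {z | I z E ∧ I z B} := fun z hz =>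
      ⟨hc z hz, fun h => hz h.2⟩
    have hsub2 : {z | I z E ∧ I z B} ⊆ {z | I z E} := fun z hz => hz.1
    have h1 := Set.ncard_le_ncard hsub
    rw [D.card_off, Set.ncard_sdiff hsub2, D.card_pts,
      D.pair_blk E B (fun e => hx₀ (e ▸ hxE))] at h1
    obtain ⟨-, h2, h3⟩ := D.params hb
    have hcount := D.toDesign.count_flags
    have hl := D.one_le
    have hlk := D.toDesign.l_lt
    have hv := D.add_two_le
    obtain ⟨n, hn⟩ := Nat.exists_eq_add_of_le (show k ≤ Nat.card α by omega)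
    obtain ⟨k', rfl⟩ : ∃ k', k = k' + 1 := ⟨k - 1, by omega⟩
    rw [Nat.add_sub_cancel] at hcount h3
    have hn' : Nat.card α - 1 = k' + n := by omega
    rw [hn'] at hcount
    have h4 : n + l ≤ k' + 1 := by omega
    have h5 : 2 * l ≤ k' := by rw [h3]; exact Nat.mul_le_mul_right _ h2
    nlinarith
  have hzl : z ∉ ln I b x₀ := fun h => hzE (h E hbE hxE)
  have hgz := D.agree_step hb hln haxis hcen hg hx₀ hgx hzB hzl
  refine D.agree_step hb hln haxis hcen hg hzB hgz hy fun hc => ?_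
  have hby : b ≠ y := fun e => hy (e ▸ hb)
  have hbz : b ≠ z := fun e => hzB (e ▸ hb)
  apply hzl
  rw [D.toDesign.ln_eq_ln hbx hbz hby (left_mem_ln b x₀) hyl (left_mem_ln b z) hc]
  exact right_mem_ln b z

section coord

variable {m : ℕ} {F : Type} [Field F] (P : ProjCoord I m F)

omit D in
theorem inc_mk {v : Fin (m + 1) → F} (hv : v ≠ 0) {E : β} :
    I (P.φ.symm (Projectivization.mk F v hv)) E ↔ v ⬝ᵥ (P.φ' E).rep = 0 := by
  rw [P.inc, Equiv.apply_symm_apply]
  obtain ⟨t, ht⟩ := exists_smul_eq_mk_rep F v hv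
  rw [← ht, smul_dotProduct, Units.smul_def, smul_eq_zero_iff_right t.ne_zero]

omit D in
theorem inc_mk' {a : Fin (m + 1) → F} (ha : a ≠ 0) (p : α) :
    I p (P.φ'.symm (Projectivization.mk F a ha)) ↔ (P.φ p).rep ⬝ᵥ a = 0 := by
  rw [P.inc, Equiv.apply_symm_apply]
  obtain ⟨t, ht⟩ := exists_smul_eq_mk_rep F a ha
  rw [← ht, dotProduct_smul, Units.smul_def, smul_eq_zero_iff_right t.ne_zero]

omit D in
/-- The permutation of the points given by a matrix. -/
noncomputable def rho : Matrix.SpecialLinearGroup (Fin (m + 1)) F →* Equiv.Perm α :=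
  (P.φ.symm.permCongrHom.toMonoidHom).comp (MulAction.toPermHom _ _)

omit D in
theorem rho_apply (M : Matrix.SpecialLinearGroup (Fin (m + 1)) F) (p : α) :
    rho P M p = P.φ.symm (M • P.φ p) := rfl

omit D in
theorem inc_rho (M : Matrix.SpecialLinearGroup (Fin (m + 1)) F) (p : α) (E : β) :
    I (rho P M p) E ↔ (M.1 *ᵥ (P.φ p).rep) ⬝ᵥ (P.φ' E).rep = 0 := by
  rw [rho_apply]
  conv_lhs => rw [← mk_rep (P.φ p), smul_mk]
  exact inc_mk P _

omit D in
theorem rho_ln (M : Matrix.SpecialLinearGroup (Fin (m + 1)) F) (x y c : α) (hc : c ∈ ln I x y) :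
    rho P M c ∈ ln I (rho P M x) (rho P M y) := by
  intro E hx hy
  rw [inc_rho P] at hx hy ⊢
  rw [dotProduct_comm, dotProduct_mulVec] at hx hy ⊢
  have ha : (P.φ' E).rep ᵥ* M.1 ≠ 0 := by
    intro h
    apply rep_nonzero (P.φ' E)
    have h2 : ((P.φ' E).rep ᵥ* M.1) ᵥ* (M⁻¹).1 = 0 := by rw [h, zero_vecMul]
    rwa [vecMul_vecMul, ← Matrix.SpecialLinearGroup.coe_mul, mul_inv_cancel,
      Matrix.SpecialLinearGroup.coe_one, vecMul_one] at h2
  rw [dotProduct_comm, ← inc_mk' P ha] at hx hy ⊢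
  exact hc _ hx hy

omit D in
/-- The transvection with given centre and axis. -/
def tv (e a : Fin (m + 1) → F) (h : e ⬝ᵥ a = 0) : Matrix.SpecialLinearGroup (Fin (m + 1)) F :=
  ⟨1 + vecMulVec e a, by
    rw [vecMulVec_eq Unit, Matrix.det_one_add_replicateCol_mul_replicateRow, dotProduct_comm, h,
      add_zero]⟩

omit D in
theorem tv_mulVec (e a : Fin (m + 1) → F) (h : e ⬝ᵥ a = 0) (v : Fin (m + 1) → F) :
    (tv e a h).1 *ᵥ v = v + (a ⬝ᵥ v) • e := by
  show (1 + vecMulVec e a) *ᵥ v = _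
  rw [add_mulVec, one_mulVec, vecMulVec_mulVec]
  simp [op_smul_eq_smul]

theorem tv_mem {e a : Fin (m + 1) → F} (he : e ≠ 0) (ha : a ≠ 0) (h : e ⬝ᵥ a = 0) :
    ∃ g ∈ D.Tc (P.φ.symm (Projectivization.mk F e he)) (P.φ'.symm (Projectivization.mk F a ha)),
      MulAction.toPerm g = rho P (tv e a h) := by
  have hb : I (P.φ.symm (Projectivization.mk F e he)) (P.φ'.symm (Projectivization.mk F a ha)) := by
    rw [inc_mk' P ha, Equiv.apply_symm_apply]
    obtain ⟨t, ht⟩ := exists_smul_eq_mk_rep F e he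
    rw [← ht, smul_dotProduct, h, smul_zero]
  refine D.exists_of_perm hb (rho_ln P _) (fun x hx => ?_) fun y E h1 h2 => ?_
  · rw [inc_mk' P ha] at hx
    rw [rho_apply, Equiv.symm_apply_eq]
    conv_lhs => rw [← mk_rep (P.φ x), smul_mk]
    conv_rhs => rw [← mk_rep (P.φ x)]
    congr 1
    show (tv e a h).1 *ᵥ (P.φ x).rep = _
    rw [tv_mulVec, dotProduct_comm, hx, zero_smul, add_zero]
  · rw [inc_mk P he] at h1
    rw [P.inc] at h2
    rw [inc_rho P, tv_mulVec, add_dotProduct, smul_dotProduct, h1, h2, smul_zero, add_zero]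

omit D in
/-- Lines in coordinates are two-dimensional spans. -/
theorem rep_mem_span {x y c : α} (hc : c ∈ ln I x y) :
    (P.φ c).rep ∈ Submodule.span F {(P.φ x).rep, (P.φ y).rep} := by
  by_contra hn
  obtain ⟨f, hf1, hf2⟩ := Submodule.exists_dual_map_eq_bot_of_notMem hn inferInstance
  let a : Fin (m + 1) → F := fun i => f (Pi.single i 1)
  have hd : ∀ v, v ⬝ᵥ a = f v := fun v => by
    rw [dotProduct, LinearMap.pi_apply_eq_sum_univ f v]
    refine Finset.sum_congr rfl fun i _ => ?_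
    rw [smul_eq_mul]
    show v i * f (Pi.single i 1) = _
    congr 2
    funext j
    simp [Pi.single_apply, eq_comm]
  have ha : a ≠ 0 := fun h => hf1 (by rw [← hd, h, dotProduct_zero])
  have hz : ∀ v ∈ ({(P.φ x).rep, (P.φ y).rep} : Set (Fin (m + 1) → F)), v ⬝ᵥ a = 0 := fun v hv => by
    rw [hd]
    have := Submodule.mem_map_of_mem (f := f) (Submodule.subset_span hv)
    rwa [hf2, Submodule.mem_bot] at this
  have := hc (P.φ'.symm (Projectivization.mk F a ha)) ((inc_mk' P ha x).2 (hz _ (.inl rfl)))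
    ((inc_mk' P ha y).2 (hz _ (.inr rfl)))
  rw [inc_mk' P ha, hd] at this
  exact hf1 this

theorem toPerm_mem_range {g : G} {b : α} {B : β} (hb : I b B) (hg : g ∈ D.Tc b B) :
    MulAction.toPermHom G α g ∈ (rho P).range := by
  by_cases hg1 : g = 1
  · rw [hg1, map_one]; exact one_mem _
  obtain ⟨x₀, hx₀⟩ := D.toDesign.exists_not_pt B
  have hgT := (Subgroup.mem_inf.1 hg).1
  have hgb : g • b = b := D.smul_of_mem_T hgT hb
  have hline := rep_mem_span P (D.toDesign.smul_mem_ln_cen (y := x₀) (Subgroup.mem_inf.1 hg).2)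
  obtain ⟨r, s, hrs⟩ := Submodule.mem_span_pair.1 hline
  have hbB : (P.φ b).rep ⬝ᵥ (P.φ' B).rep = 0 := (P.inc b B).1 hb
  have hd : (P.φ x₀).rep ⬝ᵥ (P.φ' B).rep ≠ 0 := fun h => hx₀ ((P.inc _ _).2 h)
  have hs : s ≠ 0 := by
    rintro rfl
    rw [zero_smul, add_zero] at hrs
    have hr : r ≠ 0 := by
      rintro rfl; rw [zero_smul] at hrs; exact rep_nonzero _ hrs.symm
    have : P.φ (g • x₀) = P.φ b := by
      rw [← mk_rep (P.φ (g • x₀)), ← mk_rep (P.φ b), mk_eq_mk_iff']
      exact ⟨r, hrs⟩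
    exact hx₀ (MulAction.injective g (((P.φ.injective this).trans hgb.symm)) ▸ hb)
  let c := r / s / ((P.φ x₀).rep ⬝ᵥ (P.φ' B).rep)
  have he : (P.φ b).rep ≠ 0 := rep_nonzero _
  have h0 : (c • (P.φ b).rep) ⬝ᵥ (P.φ' B).rep = 0 := by rw [smul_dotProduct, hbB, smul_zero]
  refine ⟨tv (c • (P.φ b).rep) (P.φ' B).rep h0, ?_⟩
  -- compare at one point
  have hval : rho P (tv (c • (P.φ b).rep) (P.φ' B).rep h0) x₀ = g • x₀ := by
    rw [rho_apply, Equiv.symm_apply_eq]
    conv_lhs => rw [← mk_rep (P.φ x₀), smul_mk]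
    conv_rhs => rw [← mk_rep (P.φ (g • x₀))]
    rw [mk_eq_mk_iff']
    refine ⟨s⁻¹, ?_⟩
    show _ = (tv _ _ _).1 *ᵥ (P.φ x₀).rep
    rw [tv_mulVec, ← hrs, smul_add, smul_smul, smul_smul, smul_smul, inv_mul_cancel₀ hs, one_smul,
      add_comm (_ • (P.φ b).rep), dotProduct_comm (P.φ' B).rep]
    congr 2
    simp only [c]
    field_simp
  have hc : c ≠ 0 := fun e => hg1 (D.semireg hgT hx₀ (by
    rw [← hval]
    have : tv (c • (P.φ b).rep) (P.φ' B).rep h0 = 1 := Subtype.ext (by simp [tv, e])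
    rw [this, map_one]; rfl))
  have he' : c • (P.φ b).rep ≠ 0 := smul_ne_zero hc he
  obtain ⟨g', hg', hg'eq⟩ := D.tv_mem P he' (rep_nonzero (P.φ' B)) h0
  rw [mk_rep, Equiv.symm_apply_apply] at hg'
  have hg'x : g' • x₀ = g • x₀ := by
    rw [← hval, ← hg'eq]; rfl
  have : g⁻¹ * g' = 1 := D.semireg (mul_mem (inv_mem hgT) (Subgroup.mem_inf.1 hg').1) hx₀ (by
    rw [mul_smul, hg'x, inv_smul_smul])
  rw [inv_mul_eq_one] at this
  rw [this, ← hg'eq]
  rfl

omit D in
theorem ker_rho : (rho P).ker = Subgroup.center (Matrix.SpecialLinearGroup (Fin (m + 1)) F) := by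
  rw [← SL_mulAction_ker]
  ext M
  simp only [MonoidHom.mem_ker, rho, MonoidHom.coe_comp, Function.comp_apply,
    MulEquiv.toMonoidHom_eq_coe, MonoidHom.coe_coe, map_eq_one_iff _ P.φ.symm.permCongrHom.injective]

end coord

/-- The group contains a normal `PSL` with trivial centraliser. -/
theorem exists_psl : ∃ (m : ℕ) (F : Type) (_ : Field F) (_ : Fintype F), 2 ≤ m ∧
    Nat.card β = (Fintype.card F ^ (m + 1) - 1) / (Fintype.card F - 1) ∧
    ∃ N : Subgroup G, N.Normal ∧
      Nonempty (N ≃* Matrix.ProjectiveSpecialLinearGroup (Fin (m + 1)) F) ∧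
      Subgroup.centralizer (N : Set G) = ⊥ := by
  classical
  obtain ⟨m, F, iF, iFt, hm, ⟨P⟩⟩ := D.exists_coord
  refine ⟨m, F, iF, iFt, hm, ?_, ?_⟩
  · rw [D.card_eq, Nat.card_congr P.φ, Projectivization.card'', Nat.card_fun,
      Nat.card_eq_fintype_card, Nat.card_eq_fintype_card, Fintype.card_fin]
  let S : Set G := {g | ∃ b B, I b B ∧ g ∈ D.Tc b B}
  let N := Subgroup.closure S
  refine ⟨N, ?_, ?_, ?_⟩
  · refine ⟨fun n hn h => ?_⟩
    induction hn using Subgroup.closure_induction with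
    | mem g hg =>
      obtain ⟨b, B, hb, hg⟩ := hg
      exact Subgroup.subset_closure ⟨_, _, (D.smul_iff h b B).2 hb, D.Tc_conj h hg⟩
    | one => simp
    | mul x y _ _ hx hy =>
      have : h * (x * y) * h⁻¹ = (h * x * h⁻¹) * (h * y * h⁻¹) := by group
      rw [this]; exact mul_mem hx hy
    | inv x _ hx =>
      have : h * x⁻¹ * h⁻¹ = (h * x * h⁻¹)⁻¹ := by group
      rw [this]; exact inv_mem hx
  · let π := MulAction.toPermHom G α
    have hπ : Function.Injective π := fun g h e => inv_mul_eq_one.1 (D.faithful (g⁻¹ * h) fun a => by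
      rw [mul_smul, inv_smul_eq_iff]
      exact (congrArg (fun p : Equiv.Perm α => p a) e).symm)
    have hmap : N.map π = (rho P).range := by
      refine le_antisymm ?_ ?_
      · rw [Subgroup.map_le_iff_le_comap]
        refine (Subgroup.closure_le _).2 ?_
        rintro g ⟨b, B, hb, hg⟩
        exact D.toPerm_mem_range P hb hg
      · rw [MonoidHom.range_eq_map, Subgroup.map_le_iff_le_comap]
        rw [Cfsg.Agent.Classical.sl_subgroup_eq_top_of_transvection_mem
          ((N.map π).comap (rho P)) fun i j hij c => ?_]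
        rw [Subgroup.mem_comap]
        by_cases hc : c = 0
        · rw [hc, Matrix.SpecialLinearGroup.transvection_coeff_zero, map_one]; exact one_mem _
        have h0 : (Pi.single i (1 : F) : Fin (m + 1) → F) ⬝ᵥ Pi.single j c = 0 := by
          rw [single_dotProduct, Pi.single_eq_of_ne hij, mul_zero]
        have he : (Pi.single i (1 : F) : Fin (m + 1) → F) ≠ 0 := by simp
        have ha : (Pi.single j c : Fin (m + 1) → F) ≠ 0 := by simpa using hc
        obtain ⟨g, hg, hgeq⟩ := D.tv_mem P he ha h0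
        have e : Matrix.SpecialLinearGroup.transvection hij c = tv _ _ h0 := Subtype.ext (by
          rw [Matrix.SpecialLinearGroup.transvection_coe]
          show _ = 1 + vecMulVec (Pi.single i (1 : F)) (Pi.single j c)
          congr 1
          ext r t
          simp only [Matrix.single_apply, vecMulVec_apply, Pi.single_apply]
          by_cases h1 : r = i <;> by_cases h2 : t = j <;> simp [h1, h2, Ne.symm, eq_comm])
        rw [e]
        refine ⟨g, Subgroup.subset_closure ⟨_, _, ?_, hg⟩, hgeq⟩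
        rw [inc_mk' P ha, Equiv.apply_symm_apply]
        obtain ⟨t, ht⟩ := exists_smul_eq_mk_rep F _ he
        rw [← ht, smul_dotProduct, h0, smul_zero]
    exact ⟨(Subgroup.equivMapOfInjective N π hπ).trans ((MulEquiv.subgroupCongr hmap).trans
      ((QuotientGroup.quotientKerEquivRange (rho P)).symm.trans
        (QuotientGroup.quotientMulEquivOfEq (ker_rho P))))⟩
  · refine (Subgroup.eq_bot_iff_forall _).2 fun z hz => D.faithful z fun b => ?_
    obtain ⟨B, hb, -⟩ := D.toDesign.exists_blk b b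
    obtain ⟨g, hg, hg1⟩ := D.exists_Tc hb
    by_contra hne
    have h1 := D.toDesign.smul_mem_Cen z (Subgroup.mem_inf.1 hg).2
    have h2 : g * z = z * g := Subgroup.mem_centralizer_iff.1 hz g
      (Subgroup.subset_closure ⟨b, B, hb, hg⟩)
    rw [← h2, mul_inv_cancel_right] at h1
    exact hg1 (D.toDesign.eq_one_of_two_cen hne h1 (Subgroup.mem_inf.1 hg).2)

end Full

end CfsgLib.ItoDesign63
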