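import Cfsg.Agent.Lib.ItoDesign63.Elation
import Mathlib.GroupTheory.PGroup
import Mathlib.RingTheory.Coprime.Lemmas
import Mathlib.RingTheory.Int.Basic
import Mathlib.Tactic.Ring
import Mathlib.Tactic.Linarith
import Mathlib.Tactic.LinearCombination

/-!
# Elation groups of a block are regular off the block
-/

set_option autoImplicit false
set_option linter.unusedSectionVars false

open MulAction

namespace CfsgLib.ItoDesign63

variable {G α β : Type*} [Group G] [MulAction G α] [MulAction G β]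

/-- Automorphisms fixing a block pointwise. -/
abbrev Ax (G : Type*) {α β : Type*} [Group G] [MulAction G α] [MulAction G β]
    (I : α → β → Prop) (B : β) : Subgroup G :=
  Cen G (fun E x => I x E) B

/-- A design in which every point is centre of an elation and every block carries one. -/
structure Full (G : Type*) {α β : Type*} [Group G] [MulAction G α] [MulAction G β]
    (I : α → β → Prop) (k l : ℕ) : Prop extends Design G α β I k l where
  el : ∀ a : α, ∃ g : G, IsEl I k g a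
  el' : ∀ E : β, ∃ g : G, IsEl (fun E x => I x E) k g E

variable {I : α → β → Prop} {k l : ℕ} [Finite α] [Finite β]

theorem Design.full (D : Design G α β I k l)
    (hc : ∃ (a : α) (g : G), g ∈ Cen G I a ∧ g ≠ 1) : Full G I k l := by
  have hel := D.exists_el hc
  refine ⟨D, hel, D.dual.exists_el ?_⟩
  obtain ⟨a, -⟩ := hc
  obtain ⟨g, hg⟩ := hel a
  obtain ⟨B, -, hB⟩ := D.exists_axis hel hg
  exact ⟨B, g, mem_Cen.2 fun x hx => (Set.ext_iff.1 hB x).2 hx, hg.2.1⟩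

namespace Full

open Design (left_mem_ln right_mem_ln)

variable (D : Full G I k l)
include D

/-- An element fixing a block pointwise with no other fixed point has a centre on the block. -/
theorem exists_centre {g : G} {B : β} (hg : g ∈ Ax G I B) (h1 : g ≠ 1)
    (hfix : ∀ x : α, g • x = x → I x B) :
    ∃ b, I b B ∧ g ∈ Cen G I b ∧ ∀ E, g • E = E ↔ I b E := by
  have e : fx α g = {x | I x B} := Set.ext fun x => ⟨hfix x, mem_Cen.1 hg x⟩
  have hel : IsEl (fun E x => I x E) k g B := ⟨hg, h1, by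
    rw [fx, ← D.fix_eq]
    show (fx α g).ncard = k
    rw [e]; exact D.card_pts B⟩
  obtain ⟨b, hb, hb'⟩ := D.toDesign.dual.exists_axis D.el' hel
  exact ⟨b, hb, mem_Cen.2 fun E hE => (Set.ext_iff.1 hb' E).2 hE,
    fun E => Set.ext_iff.1 hb' E⟩

/-- The elations with a given axis, together with the identity. -/
def T (B : β) : Subgroup G where
  carrier := {g | g ∈ Ax G I B ∧ (g = 1 ∨ ∀ x : α, g • x = x → I x B)}
  one_mem' := ⟨one_mem _, .inl rfl⟩
  inv_mem' := by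
    rintro g ⟨hg, h⟩
    refine ⟨inv_mem hg, ?_⟩
    rcases h with rfl | h
    · exact .inl inv_one
    · exact .inr fun x hx => h x (inv_smul_eq_iff.1 hx).symm
  mul_mem' := by
    rintro g g' ⟨hg, h⟩ ⟨hg', h'⟩
    refine ⟨mul_mem hg hg', ?_⟩
    rcases h with rfl | h
    · rwa [one_mul]
    rcases h' with rfl | h'
    · rw [mul_one]; exact .inr h
    rw [or_iff_not_imp_left]
    intro hne x hx
    by_contra hxB
    by_cases h1 : g = 1
    · exact hxB (h x (by rw [h1, one_smul]))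
    by_cases h1' : g' = 1
    · exact hxB (h' x (by rw [h1', one_smul]))
    obtain ⟨b, hb, hgb, -⟩ := D.exists_centre hg h1 h
    obtain ⟨b', hb', hgb', -⟩ := D.exists_centre hg' h1' h'
    rw [mul_smul, smul_eq_iff_eq_inv_smul] at hx
    -- both lines contain `x` and `g' • x`
    have hy : g' • x ≠ x := fun e => hxB (h' x e)
    have l1 : g' • x ∈ ln I b' x := D.smul_mem_ln_cen hgb'
    have l2 : g' • x ∈ ln I b x := by rw [hx]; exact D.smul_mem_ln_cen (inv_mem hgb)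
    by_cases hbb : b = b'
    · subst hbb
      -- the product is central at `b` and fixes all of `B` and `x`
      have hc : g * g' ∈ Cen G I b := mul_mem hgb hgb'
      have hfb : ∀ y, I y B → (g * g') • y = y := fun y hy => mem_Cen.1 (mul_mem hg hg') y hy
      have hxfix : (g * g') • x = x := by rw [mul_smul, hx, smul_inv_smul]
      have hsub : insert x {y | I y B} ⊆ fx α (g * g') := fun y hy =>
        hy.elim (fun e => e ▸ hxfix) (hfb y)
      have hcard := Set.ncard_le_ncard hsub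
      rw [Set.ncard_insert_of_notMem (s := {y | I y B}) hxB, D.card_pts] at hcard
      have hnotel : ¬ IsEl I k (g * g') b := fun he => by
        rw [he.2.2] at hcard
        omega
      rw [D.toDesign.isEl_iff] at hnotel
      push Not at hnotel
      obtain ⟨E, hE, hbE⟩ := hnotel hc hne
      -- a homology: the block `B` would lie in `E` apart from `b`
      have hfx := D.toDesign.fx_homology hc hne hE hbE
      have hsub2 : {y | I y B} \ {b} ⊆ {y | I y B ∧ I y E} := fun y hy => by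
        have := hfb y hy.1
        have h2 : y ∈ fx α (g * g') := this
        rw [hfx] at h2
        exact ⟨hy.1, h2.resolve_left hy.2⟩
      have hBE : B ≠ E := fun e => hbE (e ▸ hb)
      have hc2 := Set.ncard_le_ncard hsub2
      rw [Set.ncard_sdiff_singleton_of_mem (s := {y | I y B}) hb, D.card_pts,
        D.pair_blk B E hBE] at hc2
      have hlt := D.toDesign.l_lt
      -- so `k = l + 1`, which is impossible
      have hk : k = l + 1 := by omega
      have hcount := D.toDesign.count_flags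
      rw [hk, Nat.add_sub_cancel] at hcount
      have hl := D.one_le
      have hv := D.add_two_le
      have : Nat.card α - 1 = l + 1 := (Nat.eq_of_mul_eq_mul_right hl hcount).symm
      omega
    · have hbx : b ≠ x := fun e => hxB (e ▸ hb)
      have hbx' : b' ≠ x := fun e => hxB (e ▸ hb')
      have := D.toDesign.ln_eq_ln hbx hbx' (Ne.symm hy) (right_mem_ln b x) l2 (right_mem_ln b' x) l1
      apply hxB
      have hb'l : b' ∈ ln I b x := this ▸ left_mem_ln b' x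
      have hxl : x ∈ ln I b b' := by
        rw [D.toDesign.ln_eq hbx hbb (left_mem_ln b x) hb'l]
        exact right_mem_ln b x
      exact hxl B hb hb'

theorem T_le_Ax (B : β) : D.T B ≤ Ax G I B := fun _ h => h.1

theorem smul_of_mem_T {g : G} {B : β} (hg : g ∈ D.T B) {x : α} (hx : I x B) : g • x = x :=
  mem_Cen.1 hg.1 x hx

theorem semireg {g : G} {B : β} (hg : g ∈ D.T B) {x : α} (hx : ¬ I x B) (h : g • x = x) :
    g = 1 :=
  hg.2.resolve_right fun h' => hx (h' x h)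

theorem T_centre {g : G} {B : β} (hg : g ∈ D.T B) (h1 : g ≠ 1) :
    ∃ b, I b B ∧ g ∈ Cen G I b ∧ ∀ E, g • E = E ↔ I b E :=
  D.exists_centre hg.1 h1 (hg.2.resolve_left h1)

theorem smul_blk {g : G} {B : β} (hg : g ∈ D.T B) : g • B = B := by
  have := D.toDesign.dual.smul_of_mem_Cen hg.1
  exact this

theorem T_conj (h : G) {g : G} {B : β} (hg : g ∈ D.T B) : h * g * h⁻¹ ∈ D.T (h • B) := by
  refine ⟨D.toDesign.dual.smul_mem_Cen h hg.1, ?_⟩
  rcases hg.2 with rfl | h'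
  · exact .inl (by simp)
  · refine .inr fun x hx => ?_
    rw [mul_smul, mul_smul, smul_eq_iff_eq_inv_smul] at hx
    have := (D.smul_iff h _ B).2 (h' _ hx)
    rwa [smul_inv_smul] at this

/-- The elations with given centre and axis. -/
def Tc (b : α) (B : β) : Subgroup G := D.T B ⊓ Cen G I b

theorem Tc_conj (h : G) {g : G} {b : α} {B : β} (hg : g ∈ D.Tc b B) :
    h * g * h⁻¹ ∈ D.Tc (h • b) (h • B) :=
  ⟨D.T_conj h hg.1, D.toDesign.smul_mem_Cen h hg.2⟩

theorem card_Tc_eq {b c : α} {B C : β} (hb : I b B) (hc : I c C) :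
    Nat.card (D.Tc b B) = Nat.card (D.Tc c C) := by
  obtain ⟨f, rfl, rfl⟩ := D.trans_flag b B c C hb hc
  refine Nat.card_congr
    { toFun := fun g => ⟨f * g.1 * f⁻¹, D.Tc_conj f g.2⟩
      invFun := fun g => ⟨f⁻¹ * g.1 * f, ?_⟩
      left_inv := fun g => Subtype.ext (by simp [mul_assoc])
      right_inv := fun g => Subtype.ext (by simp [mul_assoc]) }
  have := D.Tc_conj f⁻¹ g.2
  rwa [inv_inv, inv_smul_smul, inv_smul_smul] at this

theorem exists_Tc {b : α} {B : β} (hb : I b B) : ∃ g ∈ D.Tc b B, g ≠ 1 := by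
  obtain ⟨w, hw⟩ := D.el b
  obtain ⟨C, hC, hfx⟩ := D.toDesign.exists_axis D.el hw
  obtain ⟨f, hfb, hfB⟩ := D.trans_flag b C b B hC hb
  refine ⟨f * w * f⁻¹, ?_, fun e => hw.2.1 (conj_eq_one_iff.1 e)⟩
  have hmem : w ∈ D.Tc b C := ⟨⟨mem_Cen.2 fun x hx => (Set.ext_iff.1 hfx x).2 hx,
    .inr fun x hx => (Set.ext_iff.1 hfx x).1 hx⟩, hw.1⟩
  have := D.Tc_conj f hmem
  rwa [hfb, hfB] at this

theorem Tc_disjoint {b c : α} {B : β} {g : G} (hbc : b ≠ c) (h : g ∈ D.Tc b B)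
    (h' : g ∈ D.Tc c B) : g = 1 :=
  D.toDesign.eq_one_of_two_cen hbc h.2 h'.2

theorem exists_other {b : α} {B : β} : ∃ c, I c B ∧ c ≠ b := by
  by_contra hc
  push Not at hc
  have : {x | I x B} ⊆ {b} := fun x hx => hc x hx
  have := Set.ncard_le_ncard this
  rw [D.card_pts, Set.ncard_singleton] at this
  have := D.two_le
  omega

theorem comm_of_ne {b c : α} {B : β} {g h : G} (hb : I b B) (hc : I c B) (hbc : b ≠ c)
    (hg : g ∈ D.Tc b B) (hh : h ∈ D.Tc c B) : g * h = h * g := by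
  rw [← commutatorElement_eq_one_iff_mul_comm, commutatorElement_def]
  refine D.toDesign.eq_one_of_two_cen hbc ?_ ?_
  · have := D.toDesign.smul_mem_Cen h (inv_mem hg.2)
    rw [D.smul_of_mem_T hh.1 hb] at this
    simpa [mul_assoc] using mul_mem hg.2 this
  · have := D.toDesign.smul_mem_Cen g hh.2
    rw [D.smul_of_mem_T hg.1 hc] at this
    simpa [mul_assoc] using mul_mem this (inv_mem hh.2)

theorem T_comm {B : β} {g h : G} (hg : g ∈ D.T B) (hh : h ∈ D.T B) : g * h = h * g := by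
  by_cases g1 : g = 1
  · simp [g1]
  by_cases h1 : h = 1
  · simp [h1]
  obtain ⟨b, hb, hgb, -⟩ := D.T_centre hg g1
  obtain ⟨c, hc, hhc, -⟩ := D.T_centre hh h1
  by_cases hbc : b = c
  · subst hbc
    obtain ⟨d, hd, hdb⟩ := D.exists_other (b := b) (B := B)
    obtain ⟨e, he, he1⟩ := D.exists_Tc hd
    -- `h * e` has a centre other than `b`
    have hhe : h * e ∈ D.T B := mul_mem hh he.1
    have hne : h * e ≠ 1 := fun h0 => he1 (D.Tc_disjoint (Ne.symm hdb)
      (Subgroup.mem_inf.2 ⟨he.1, by rw [eq_inv_of_mul_eq_one_right h0]; exact inv_mem hhc⟩) he)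
    obtain ⟨f, hf, hhef, -⟩ := D.T_centre hhe hne
    have hfb : b ≠ f := by
      rintro rfl
      exact he1 (D.Tc_disjoint (Ne.symm hdb)
        (Subgroup.mem_inf.2 ⟨he.1, by simpa using mul_mem (inv_mem hhc) hhef⟩) he)
    have e1 := D.comm_of_ne hb hf hfb ⟨hg, hgb⟩ ⟨hhe, hhef⟩
    have e2 := D.comm_of_ne hb hd (Ne.symm hdb) ⟨hg, hgb⟩ he
    have : g * h * e = h * g * e := by
      rw [mul_assoc, e1, mul_assoc, ← e2, mul_assoc]
    exact mul_right_cancel this
  · exact D.comm_of_ne hb hc hbc ⟨hg, hgb⟩ ⟨hh, hhc⟩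

theorem pow_eq_one_of_ne {b c : α} {B : β} {g h : G} (hb : I b B) (hc : I c B) (hbc : b ≠ c)
    (hg : g ∈ D.Tc b B) (hh : h ∈ D.Tc c B) (h1 : h ≠ 1) : g ^ orderOf h = 1 := by
  have hgh : g * h ∈ D.T B := mul_mem hg.1 hh.1
  have hne : g * h ≠ 1 := fun h0 =>
    h1 (D.Tc_disjoint hbc (eq_inv_of_mul_eq_one_right h0 ▸ inv_mem hg) hh)
  obtain ⟨f, hf, hghf, -⟩ := D.T_centre hgh hne
  have hfb : f ≠ b := by
    rintro rfl
    have hgc : g ∈ Cen G I f := hg.2
    exact h1 (D.Tc_disjoint hbc (Subgroup.mem_inf.2 ⟨hh.1, by simpa using mul_mem (inv_mem hgc) hghf⟩) hh)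
  have e : (g * h) ^ orderOf h = g ^ orderOf h := by
    rw [(show Commute g h from D.comm_of_ne hb hc hbc hg hh).mul_pow, pow_orderOf_eq_one, mul_one]
  exact D.toDesign.eq_one_of_two_cen hfb (e ▸ pow_mem hghf _) (pow_mem hg.2 _)

theorem pow_orderOf {B : β} {g h : G} (hg : g ∈ D.T B) (hh : h ∈ D.T B) (h1 : h ≠ 1) :
    g ^ orderOf h = 1 := by
  by_cases g1 : g = 1
  · simp [g1]
  obtain ⟨b, hb, hgb, -⟩ := D.T_centre hg g1
  obtain ⟨c, hc, hhc, -⟩ := D.T_centre hh h1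
  by_cases hbc : b = c
  · subst hbc
    obtain ⟨d, hd, hdb⟩ := D.exists_other (b := b) (B := B)
    obtain ⟨e, he, he1⟩ := D.exists_Tc hd
    have e2 := D.pow_eq_one_of_ne hd hb hdb he ⟨hh, hhc⟩ h1
    rw [← orderOf_dvd_iff_pow_eq_one] at e2
    have e3 := D.pow_eq_one_of_ne hb hd (Ne.symm hdb) ⟨hg, hgb⟩ he he1
    rw [← orderOf_dvd_iff_pow_eq_one] at e3 ⊢
    exact e3.trans e2
  · exact D.pow_eq_one_of_ne hb hc hbc ⟨hg, hgb⟩ ⟨hh, hhc⟩ h1

/-- The translations fixing a block are those with centre on it. -/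
theorem mem_fix_blk_iff {B C : β} {g : G} (hg : g ∈ D.T B) (h1 : g ≠ 1) :
    g • C = C ↔ ∃ b, I b B ∧ I b C ∧ g ∈ Cen G I b := by
  obtain ⟨b, hb, hgb, hiff⟩ := D.T_centre hg h1
  refine ⟨fun h => ⟨b, hb, (hiff C).1 h, hgb⟩, ?_⟩
  rintro ⟨c, -, hcC, hgc⟩
  exact mem_Cen.1 hgc C hcC

open scoped Classical in
theorem card_centred {B : β} (b₀ : α) (hb₀ : I b₀ B) (S : Set α) (hS : ∀ b ∈ S, I b B) :
    {g : G | g ∈ D.T B ∧ g ≠ 1 ∧ ∃ b ∈ S, g ∈ Cen G I b}.ncard
      = S.ncard * (Nat.card (D.Tc b₀ B) - 1) := by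
  have := D.toDesign.finite_group
  have := Fintype.ofFinite G
  have := Fintype.ofFinite α
  rw [Set.ncard_eq_toFinset_card', Set.ncard_eq_toFinset_card']
  have e : {g : G | g ∈ D.T B ∧ g ≠ 1 ∧ ∃ b ∈ S, g ∈ Cen G I b}.toFinset
      = S.toFinset.biUnion fun b => Finset.univ.filter fun g : G => g ∈ D.Tc b B ∧ g ≠ 1 := by
    ext g
    simp only [Set.mem_toFinset, Set.mem_setOf_eq, Finset.mem_biUnion, Finset.mem_filter,
      Finset.mem_univ, true_and]
    exact ⟨fun ⟨h, h1, b, hb, hgb⟩ => ⟨b, hb, ⟨h, hgb⟩, h1⟩,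
      fun ⟨b, hb, h, h1⟩ => ⟨h.1, h1, b, hb, h.2⟩⟩
  rw [e, Finset.card_biUnion]
  · rw [Finset.sum_const_nat fun b hb => ?_]
    rw [D.card_Tc_eq hb₀ (hS b (Set.mem_toFinset.1 hb))]
    have e2 : (Finset.univ.filter fun g : G => g ∈ D.Tc b B ∧ g ≠ 1)
        = (D.Tc b B : Set G).toFinset.erase 1 := by ext g; simp [and_comm]
    rw [e2, Finset.card_erase_of_mem (by simp), ← Set.ncard_eq_toFinset_card']
    rfl
  · intro b _ c _ hbc
    rw [Function.onFun, Finset.disjoint_left]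
    intro g hg hg'
    simp only [Finset.mem_filter] at hg hg'
    exact hg.2.2 (D.Tc_disjoint hbc hg.2.1 hg'.2.1)

theorem card_T {B : β} {b₀ : α} (hb₀ : I b₀ B) :
    Nat.card (D.T B) = k * (Nat.card (D.Tc b₀ B) - 1) + 1 := by
  have := D.toDesign.finite_group
  have h := D.card_centred b₀ hb₀ {b | I b B} fun _ h => h
  have e : {g : G | g ∈ D.T B ∧ g ≠ 1 ∧ ∃ b ∈ {b | I b B}, g ∈ Cen G I b} = (D.T B : Set G) \ {1} :=
    Set.ext fun g => ⟨fun h => ⟨h.1, h.2.1⟩, fun h => ⟨h.1, h.2, by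
      obtain ⟨b, hb, hgb, -⟩ := D.T_centre h.1 h.2
      exact ⟨b, hb, hgb⟩⟩⟩
  rw [e, Set.ncard_sdiff_singleton_of_mem (one_mem (D.T B)), D.card_pts, ← Nat.card_coe_set_eq] at h
  have : 0 < Nat.card (D.T B) := Nat.card_pos
  have h' : Nat.card (D.T B) - 1 = k * (Nat.card (D.Tc b₀ B) - 1) := h
  omega

/-- Translations fixing a second block. -/
def TC (B C : β) : Subgroup G := D.T B ⊓ stabilizer G C

theorem card_TC {B C : β} (hBC : B ≠ C) {b₀ : α} (hb₀ : I b₀ B) :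
    Nat.card (D.TC B C) = l * (Nat.card (D.Tc b₀ B) - 1) + 1 := by
  have := D.toDesign.finite_group
  have h := D.card_centred b₀ hb₀ {b | I b B ∧ I b C} fun _ h => h.1
  have e : {g : G | g ∈ D.T B ∧ g ≠ 1 ∧ ∃ b ∈ {b | I b B ∧ I b C}, g ∈ Cen G I b}
      = (D.TC B C : Set G) \ {1} :=
    Set.ext fun g => ⟨fun h => ⟨⟨h.1, (D.mem_fix_blk_iff h.1 h.2.1).2 (by
        obtain ⟨b, ⟨h1, h2⟩, h3⟩ := h.2.2; exact ⟨b, h1, h2, h3⟩)⟩, h.2.1⟩,
      fun h => ⟨h.1.1, h.2, by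
        obtain ⟨b, h1, h2, h3⟩ := (D.mem_fix_blk_iff h.1.1 h.2).1 h.1.2
        exact ⟨b, ⟨h1, h2⟩, h3⟩⟩⟩
  rw [e, Set.ncard_sdiff_singleton_of_mem (one_mem (D.TC B C)), D.pair_blk B C hBC,
    ← Nat.card_coe_set_eq] at h
  have : 0 < Nat.card (D.TC B C) := Nat.card_pos
  have h' : Nat.card (D.TC B C) - 1 = l * (Nat.card (D.Tc b₀ B) - 1) := h
  omega

theorem card_off (B : β) : {x : α | ¬ I x B}.ncard = Nat.card α - k := by
  rw [show {x : α | ¬ I x B} = {x | I x B}ᶜ from rfl, Set.ncard_compl, D.card_pts]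

theorem card_T_dvd (B : β) : Nat.card (D.T B) ∣ Nat.card α - k := by
  have := D.toDesign.finite_group
  have hinv : ∀ (g : D.T B) (x : α), ¬ I x B → ¬ I (g.1 • x) B := fun g x hx hc => hx (by
    rw [← D.smul_iff g.1, D.smul_blk g.2]; exact hc)
  let _ : MulAction (D.T B) {x : α // ¬ I x B} :=
    { smul := fun g x => ⟨g.1 • x.1, hinv g x.1 x.2⟩
      one_smul := fun x => Subtype.ext (one_smul G x.1)
      mul_smul := fun g h x => Subtype.ext (mul_smul g.1 h.1 x.1) }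
  rw [← D.card_off B, ← Nat.card_coe_set_eq]
  have e := MulAction.selfEquivSigmaOrbitsQuotientStabilizer (D.T B) {x : α // ¬ I x B}
  have := Fintype.ofFinite (orbitRel.Quotient (D.T B) {x : α // ¬ I x B})
  rw [show Nat.card ↑{x : α | ¬ I x B} = Nat.card {x : α // ¬ I x B} from rfl, Nat.card_congr e,
    Nat.card_sigma]
  refine Finset.dvd_sum fun q _ => ?_
  rw [show stabilizer (D.T B) q.out = ⊥ from (Subgroup.eq_bot_iff_forall _).2 fun g hg =>
    Subtype.ext (D.semireg g.2 q.out.2 (congrArg Subtype.val hg))]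
  rw [← Subgroup.index, Subgroup.index_bot]

omit D in
/-- The counting argument forcing regularity. -/
theorem arith {v k l p i d e : ℕ} (hp : p.Prime) (hi : 1 ≤ i) (hl : 1 ≤ l) (hlk : l < k)
    (hkv : k ≤ v) (hd : p ^ d = k * (p ^ i - 1) + 1) (he : p ^ e = l * (p ^ i - 1) + 1)
    (hdvd : p ^ d ∣ v - k) (hcount : k * (k - 1) = (v - 1) * l) :
    v - k = p ^ d ∧ d = e + i := by
  have hpi : 2 ≤ p ^ i := hp.two_le.trans (Nat.le_self_pow (by omega) p)
  have hed : e < d := by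
    refine (Nat.pow_lt_pow_iff_right hp.one_lt).1 ?_
    rw [hd, he]
    have : l * (p ^ i - 1) < k * (p ^ i - 1) := Nat.mul_lt_mul_of_pos_right hlk (by omega)
    omega
  have hie : i ≤ e := by
    refine (Nat.pow_le_pow_iff_right hp.one_lt).1 ?_
    rw [he]
    have : p ^ i - 1 ≤ l * (p ^ i - 1) := Nat.le_mul_of_pos_left _ (by omega)
    omega
  obtain ⟨f, rfl⟩ := Nat.exists_eq_add_of_le hed.le
  obtain ⟨n, rfl⟩ := Nat.exists_eq_add_of_le hkv
  rw [Nat.add_sub_cancel_left] at hdvd ⊢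
  obtain ⟨e', rfl⟩ := Nat.exists_eq_add_of_le hie
  have hP : Prime (p : ℤ) := Nat.prime_iff_prime_int.1 hp
  have hd' : (p : ℤ) ^ (i + e' + f) = k * ((p : ℤ) ^ i - 1) + 1 := by
    have := congrArg (Nat.cast : ℕ → ℤ) hd
    push_cast [Nat.cast_sub (show 1 ≤ p ^ i by omega)] at this
    exact this
  have he' : (p : ℤ) ^ (i + e') = l * ((p : ℤ) ^ i - 1) + 1 := by
    have := congrArg (Nat.cast : ℕ → ℤ) he
    push_cast [Nat.cast_sub (show 1 ≤ p ^ i by omega)] at this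
    exact this
  have hc : (k : ℤ) * (k - 1) = ((k : ℤ) + n - 1) * l := by
    have := congrArg (Nat.cast : ℕ → ℤ) hcount
    push_cast [Nat.cast_sub (show 1 ≤ k by omega), Nat.cast_sub (show 1 ≤ k + n by omega)] at this
    exact this
  have key : (n : ℤ) * ((p : ℤ) ^ i - 1) * ((p : ℤ) ^ (i + e') - 1)
      = (p : ℤ) ^ (i + (i + e')) * ((p : ℤ) ^ (e' + f) - 1) * ((p : ℤ) ^ f - 1) := by
    have h1 : ((p : ℤ) ^ (i + e') - 1) = l * ((p : ℤ) ^ i - 1) := by rw [he']; ring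
    have h2 : ((k : ℤ) - 1) * ((p : ℤ) ^ i - 1) = (p : ℤ) ^ i * ((p : ℤ) ^ (e' + f) - 1) := by
      rw [mul_sub ((p : ℤ) ^ i), ← pow_add, show i + (e' + f) = i + e' + f by ring, hd']; ring
    have h3 : ((k : ℤ) - l) * ((p : ℤ) ^ i - 1) = (p : ℤ) ^ (i + e') * ((p : ℤ) ^ f - 1) := by
      rw [mul_sub ((p : ℤ) ^ (i + e')), ← pow_add, hd', he']; ring
    have h4 : (n : ℤ) * l = ((k : ℤ) - 1) * (k - l) := by linear_combination -hc
    rw [h1, pow_add (p : ℤ) i (i + e')]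
    calc (n : ℤ) * ((p : ℤ) ^ i - 1) * (l * ((p : ℤ) ^ i - 1))
        = (((k : ℤ) - 1) * ((p : ℤ) ^ i - 1)) * (((k : ℤ) - l) * ((p : ℤ) ^ i - 1)) := by
          linear_combination ((p : ℤ) ^ i - 1) * ((p : ℤ) ^ i - 1) * h4
      _ = _ := by rw [h2, h3]; ring
  have hf : 1 ≤ f := by omega
  have hcop : ∀ m : ℕ, 1 ≤ m → ¬ (p : ℤ) ∣ (p : ℤ) ^ m - 1 := fun m hm h => by
    have h1 : (p : ℤ) ∣ 1 := by
      have := dvd_sub (dvd_pow_self (p : ℤ) (show m ≠ 0 by omega)) h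
      simpa using this
    exact hP.not_unit (isUnit_of_dvd_one h1)
  have hndvd : ¬ (p : ℤ) ∣ ((p : ℤ) ^ (e' + f) - 1) * ((p : ℤ) ^ f - 1) := fun h =>
    (hP.dvd_or_dvd h).elim (hcop _ (by omega)) (hcop _ hf)
  have hle : f ≤ i := by
    have h1 : (p : ℤ) ^ (i + e' + f) ∣
        (p : ℤ) ^ (i + (i + e')) * (((p : ℤ) ^ (e' + f) - 1) * ((p : ℤ) ^ f - 1)) := by
      rw [← mul_assoc, ← key, mul_assoc]
      exact Dvd.dvd.mul_right (by exact_mod_cast hdvd) _
    have h2 : IsCoprime ((p : ℤ) ^ (i + e' + f))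
        (((p : ℤ) ^ (e' + f) - 1) * ((p : ℤ) ^ f - 1)) :=
      ((Prime.coprime_iff_not_dvd hP).2 hndvd).pow_left
    have h4 : p ^ (i + e' + f) ∣ p ^ (i + (i + e')) := by exact_mod_cast h2.dvd_of_dvd_mul_right h1
    have := (Nat.pow_dvd_pow_iff_le_right hp.one_lt).1 h4
    omega
  have hge : i ≤ f := by
    have h1 : ((p : ℤ) ^ i - 1) ∣ (p : ℤ) ^ (i + e') * ((p : ℤ) ^ f - 1) :=
      ⟨(k : ℤ) - l, by rw [mul_sub ((p : ℤ) ^ (i + e')), ← pow_add, hd', he']; ring⟩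
    have h2 : IsCoprime ((p : ℤ) ^ i - 1) ((p : ℤ) ^ (i + e')) :=
      (((Prime.coprime_iff_not_dvd hP).2 (hcop i hi)).symm).pow_right
    have hpf : 2 ≤ p ^ f := hp.two_le.trans (Nat.le_self_pow (by omega) p)
    have h5 := Int.le_of_dvd (by
      have : (2 : ℤ) ≤ (p : ℤ) ^ f := by exact_mod_cast hpf
      omega) (h2.dvd_of_dvd_mul_left h1)
    have h6 : ((p ^ i : ℕ) : ℤ) ≤ ((p ^ f : ℕ) : ℤ) := by push_cast; omega
    exact (Nat.pow_le_pow_iff_right hp.one_lt).1 (by exact_mod_cast h6)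
  obtain rfl : f = i := le_antisymm hle hge
  refine ⟨?_, rfl⟩
  have h5 : (n : ℤ) = (p : ℤ) ^ (f + e' + f) := by
    have hne : ((p : ℤ) ^ f - 1) * ((p : ℤ) ^ (f + e') - 1) ≠ 0 := mul_ne_zero
      (fun h => hcop f hi (h ▸ dvd_zero _)) (fun h => hcop (f + e') (by omega) (h ▸ dvd_zero _))
    apply mul_right_cancel₀ hne
    rw [← mul_assoc, key, show f + (f + e') = f + e' + f by ring, show e' + f = f + e' by ring]
    ring
  exact_mod_cast h5

/-- All parameters. -/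
theorem params {B : β} {b₀ : α} (hb₀ : I b₀ B) :
    Nat.card (D.T B) = Nat.card α - k ∧ 2 ≤ Nat.card (D.Tc b₀ B) ∧
      k - 1 = Nat.card (D.Tc b₀ B) * l := by
  have := D.toDesign.finite_group
  obtain ⟨g, hg, hg1⟩ := D.exists_Tc hb₀
  obtain ⟨p, hp, hpg⟩ := Nat.exists_prime_and_dvd (orderOf_eq_one_iff.not.2 hg1)
  obtain ⟨r, hr⟩ := hpg
  let g' := g ^ r
  have hr0 : r ≠ 0 := by
    rintro rfl
    rw [mul_zero] at hr
    exact (orderOf_pos g).ne' hr
  have hg'o : orderOf g' = p := by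
    rw [orderOf_pow_of_dvd hr0 ⟨p, by rw [hr]; ring⟩, hr, Nat.mul_div_cancel _ (Nat.pos_of_ne_zero hr0)]
  have hg'1 : g' ≠ 1 := fun e => by rw [e, orderOf_one] at hg'o; exact hp.ne_one hg'o.symm
  have hexp : ∀ h : D.T B, h ^ p = 1 := fun h =>
    Subtype.ext (by rw [SubmonoidClass.coe_pow, ← hg'o]; exact D.pow_orderOf h.2 (pow_mem hg.1 r) hg'1)
  have hP : IsPGroup p (D.T B) := fun h => ⟨1, by rw [pow_one]; exact hexp h⟩
  have := Fact.mk hp
  obtain ⟨d, hd⟩ := IsPGroup.iff_card.1 hP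
  obtain ⟨i, hi⟩ := IsPGroup.iff_card.1 (hP.to_le (show D.Tc b₀ B ≤ D.T B from inf_le_left))
  have h2 : 2 ≤ Nat.card (D.Tc b₀ B) := by
    have : Nontrivial (D.Tc b₀ B) :=
      ⟨⟨⟨g, hg⟩, 1, fun e => hg1 (congrArg Subtype.val e)⟩⟩
    exact Finite.one_lt_card
  have hi1 : 1 ≤ i := by
    rcases Nat.eq_zero_or_pos i with rfl | h
    · rw [hi, pow_zero] at h2; omega
    · exact h
  obtain ⟨C, hC⟩ : ∃ C, B ≠ C := by
    obtain ⟨a, ha⟩ := D.toDesign.exists_not_pt B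
    obtain ⟨C, hC, -⟩ := D.toDesign.exists_blk a a
    exact ⟨C, fun e => ha (e ▸ hC)⟩
  obtain ⟨e, he⟩ := IsPGroup.iff_card.1 (hP.to_le (show D.TC B C ≤ D.T B from inf_le_left))
  have h1 := D.card_T hb₀
  have h3 := D.card_TC hC hb₀
  have hdv := D.card_T_dvd B
  rw [hd] at h1 hdv
  rw [he, hi] at h3
  rw [hi] at h1 h2 ⊢
  rw [hd]
  have hkv : k ≤ Nat.card α := by have := D.add_two_le; omega
  obtain ⟨hvk, rfl⟩ := arith hp hi1 D.one_le D.toDesign.l_lt hkv h1 h3 hdv D.toDesign.count_flags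
  refine ⟨hvk.symm, h2, ?_⟩
  rw [pow_add, h3] at h1
  obtain ⟨q, hq⟩ : ∃ q, p ^ i = q + 1 := ⟨p ^ i - 1, by omega⟩
  rw [hq, Nat.add_sub_cancel] at h1
  rw [hq]
  have : k = (q + 1) * l + 1 := by
    apply Nat.eq_of_mul_eq_mul_right (show 0 < q by omega)
    linarith
  omega

end Full

end CfsgLib.ItoDesign63
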